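import Cfsg.Agent.Golay.Core
import Cfsg.Agent.S0362
import Cfsg.Agent.S0366
import Cfsg.Agent.S0367
import Cfsg.Agent.S0368
import Cfsg.Agent.SporadicA.OctadSpan
set_option linter.all false

/-!
The binary permutation module of `M24` on the 24 points: coset leaders of the code, transitivity on small sets,
and the invariant subspaces of the code.
-/

set_option autoImplicit false

namespace Cfsg.Agent.H852.GolayMod

open Cfsg
open scoped Pointwise
open Cfsg.Agent.Golay.Core (word mask syn popc leader)

/-- The word of a set of points. -/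
def ind (s : Finset GolayPt) : GolayPt → ZMod 2 := fun p => if p ∈ s then 1 else 0

theorem ind_apply (s : Finset GolayPt) (p : GolayPt) : ind s p = if p ∈ s then 1 else 0 := rfl

theorem ind_pos {s : Finset GolayPt} {p : GolayPt} (h : p ∈ s) : ind s p = 1 := if_pos h

theorem ind_neg {s : Finset GolayPt} {p : GolayPt} (h : p ∉ s) : ind s p = 0 := if_neg h

theorem ind_inj {s t : Finset GolayPt} (h : ind s = ind t) : s = t := by
  ext p
  have h1 := congrFun h p
  rw [ind_apply, ind_apply] at h1
  by_cases h2 : p ∈ s <;> by_cases h3 : p ∈ t <;> simp_all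

theorem z2 (a : ZMod 2) : a = 0 ∨ a = 1 := by revert a; decide

theorem add_self (w : GolayPt → ZMod 2) : w + w = 0 := by
  funext p
  show w p + w p = 0
  rcases z2 (w p) with h | h <;> rw [h] <;> decide

theorem ind_support (w : GolayPt → ZMod 2) :
    ind (Finset.univ.filter fun p => w p ≠ 0) = w := by
  funext p
  rw [ind_apply]
  simp only [Finset.mem_filter, Finset.mem_univ, true_and]
  rcases z2 (w p) with h | h <;> simp [h]

theorem hammingNorm_ind (s : Finset GolayPt) : hammingNorm (ind s) = s.card := by
  unfold hammingNorm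
  congr 1
  ext p
  simp [ind_apply]

theorem ind_symmDiff (s t : Finset GolayPt) : ind (symmDiff s t) = ind s + ind t := by
  funext p
  show ind (symmDiff s t) p = ind s p + ind t p
  simp only [ind_apply, Finset.mem_symmDiff]
  by_cases h2 : p ∈ s <;> by_cases h3 : p ∈ t <;> simp [h2, h3] <;> decide

/-- Every word is congruent modulo the code to the word of a set of at most four points. -/
theorem exists_leader (w : GolayPt → ZMod 2) :
    ∃ s : Finset GolayPt, s.card ≤ 4 ∧ w + ind s ∈ golayCode := by
  obtain ⟨h1, h2, h3⟩ := Golay.Core.leader_spec (s := syn (mask w) % 2048) (Nat.mod_lt _ (by norm_num))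
  set l := leader (syn (mask w) % 2048) with hl
  have hl24 : l < 2 ^ 24 := lt_trans h3 (by norm_num)
  have hpop : popc 24 l ≤ 3 := by
    rw [Golay.Core.popc_eq_card] at h2 ⊢
    have : (Finset.range 24).filter (fun i => l.testBit i = true) =
        (Finset.range 23).filter (fun i => l.testBit i = true) := by
      ext i
      simp only [Finset.mem_filter, Finset.mem_range]
      constructor
      · rintro ⟨hi, hb⟩
        refine ⟨?_, hb⟩
        by_contra hi2
        have : i = 23 := by omega
        subst this
        rw [Nat.testBit_eq_false_of_lt h3] at hb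
        exact absurd hb (by decide)
      · rintro ⟨hi, hb⟩
        exact ⟨by omega, hb⟩
    rw [this]
    exact h2
  have hcard : (Finset.univ.filter fun p => word l p ≠ 0).card ≤ 3 := by
    have := Golay.Core.hammingNorm_word hl24
    unfold hammingNorm at this
    omega
  have hx : (syn (mask w) ^^^ syn l) % 2048 = 0 := by
    have := Nat.xor_mod_two_pow (a := syn (mask w)) (b := syn l) (n := 11)
    norm_num at this
    rw [this, h1]
    exact Nat.xor_self _
  have hlt : syn (mask w) ^^^ syn l < 4096 :=
    Nat.xor_lt_two_pow (n := 12) (Golay.Core.syn_lt _) (Golay.Core.syn_lt _)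
  rw [← Golay.Core.syn_xor] at hx hlt
  have hcases : syn (mask w ^^^ l) = 0 ∨ syn (mask w ^^^ l) = 2048 := by omega
  rcases hcases with h | h
  · refine ⟨Finset.univ.filter fun p => word l p ≠ 0, by omega, ?_⟩
    rw [ind_support, Golay.Core.mem_golayCode_iff_syn, Golay.Core.mask_add, Golay.Core.mask_word hl24]
    exact h
  · refine ⟨insert none (Finset.univ.filter fun p => word l p ≠ 0),
      le_trans (Finset.card_insert_le _ _) (by omega), ?_⟩
    have hnone : word l none = 0 := by
      rw [Golay.Core.word_apply]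
      have : l.testBit (Golay.Core.pos none) = false := Nat.testBit_eq_false_of_lt h3
      rw [this]
      rfl
    have hind : ind (insert none (Finset.univ.filter fun p => word l p ≠ 0)) =
        word l + word 8388608 := by
      funext p
      show _ = word l p + word 8388608 p
      rcases p with _ | x
      · rw [ind_pos (Finset.mem_insert_self _ _), hnone]
        decide +kernel
      · have h8 : ∀ x : ZMod 23, word 8388608 (some x) = 0 := by decide +kernel
        rw [h8, add_zero, ind_apply]
        simp only [Finset.mem_insert, Finset.mem_filter, Finset.mem_univ, true_and, reduceCtorEq,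
          false_or]
        rcases z2 (word l (some x)) with h | h <;> simp [h]
    rw [hind, Golay.Core.mem_golayCode_iff_syn, Golay.Core.mask_add, Golay.Core.mask_add,
      Golay.Core.mask_word hl24, Golay.Core.mask_word (by norm_num), ← Nat.xor_assoc,
      Golay.Core.syn_xor, h]
    decide +kernel

/-- A word of the code with fewer than eight ones is zero. -/
theorem eq_zero_of_lt {w : GolayPt → ZMod 2} (hw : w ∈ golayCode) (h : hammingNorm w < 8) : w = 0 := by
  by_contra h0
  have := Golay.Core.eight_le_of_mem_of_ne_zero hw h0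
  omega

/-! ### Transitivity -/

theorem natCard_pt : Nat.card GolayPt = 24 := by
  rw [Nat.card_eq_fintype_card]
  decide

/-- Moving small injective tuples. -/
theorem exists_perm {n : ℕ} (hn : n ≤ 5) (a b : Fin n → GolayPt) (ha : Function.Injective a)
    (hb : Function.Injective b) : ∃ σ ∈ M24, ∀ i, σ (a i) = b i := by
  have h5 := Cfsg.Agent.S0366.result
  have hn' : MulAction.IsMultiplyPretransitive M24 GolayPt n :=
    MulAction.isMultiplyPretransitive_of_le (G := M24) (α := GolayPt) (m := n) (n := 5) hn
      (by rw [natCard_pt]; norm_num)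
  obtain ⟨g, hg⟩ := MulAction.exists_smul_eq M24 (⟨a, ha⟩ : Fin n ↪ GolayPt) ⟨b, hb⟩
  refine ⟨g, g.2, fun i => ?_⟩
  have := congrArg (fun f : Fin n ↪ GolayPt => f i) hg
  exact this

theorem exists_perm_two {x y x' y' : GolayPt} (h : x ≠ y) (h' : x' ≠ y') :
    ∃ σ ∈ M24, σ x = x' ∧ σ y = y' := by
  obtain ⟨σ, hσ, h1⟩ := exists_perm (n := 2) (by norm_num) ![x, y] ![x', y']
    (by intro i j; fin_cases i <;> fin_cases j <;> simp [h, h.symm])
    (by intro i j; fin_cases i <;> fin_cases j <;> simp [h', h'.symm])
  exact ⟨σ, hσ, h1 0, h1 1⟩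

theorem exists_perm_three {x y z x' y' z' : GolayPt} (h1 : x ≠ y) (h2 : x ≠ z) (h3 : y ≠ z)
    (h1' : x' ≠ y') (h2' : x' ≠ z') (h3' : y' ≠ z') :
    ∃ σ ∈ M24, σ x = x' ∧ σ y = y' ∧ σ z = z' := by
  obtain ⟨σ, hσ, h⟩ := exists_perm (n := 3) (by norm_num) ![x, y, z] ![x', y', z']
    (by intro i j; fin_cases i <;> fin_cases j <;> simp [h1, h1.symm, h2, h2.symm, h3, h3.symm])
    (by intro i j; fin_cases i <;> fin_cases j <;>
          simp [h1', h1'.symm, h2', h2'.symm, h3', h3'.symm])
  exact ⟨σ, hσ, h 0, h 1, h 2⟩

/-- Moving a small set so that one point of it moves to a new point and the others are fixed. -/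
theorem exists_perm_replace {s : Finset GolayPt} (hs : s.card ≤ 4) {a b : GolayPt} (ha : a ∈ s)
    (hb : b ∉ s) : ∃ σ ∈ M24, (∀ x ∈ s, x ≠ a → σ x = x) ∧ σ a = b := by
  classical
  obtain ⟨σ, hσ, h⟩ := exists_perm (n := s.card) (by omega)
    (fun i => (s.equivFin.symm i : GolayPt))
    (fun i => if (s.equivFin.symm i : GolayPt) = a then b else (s.equivFin.symm i : GolayPt))
    (Subtype.val_injective.comp s.equivFin.symm.injective)
    (by
      intro i j hij
      apply s.equivFin.symm.injective
      apply Subtype.ext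
      have hi := (s.equivFin.symm i).2
      have hj := (s.equivFin.symm j).2
      simp only at hij
      split_ifs at hij with h1 h2 h2
      · rw [h1, h2]
      · rw [← hij] at hj; exact absurd hj hb
      · rw [hij] at hi; exact absurd hi hb
      · exact hij)
  refine ⟨σ, hσ, fun x hx hxa => ?_, ?_⟩
  · have := h (s.equivFin ⟨x, hx⟩)
    simp only [Equiv.symm_apply_apply] at this
    rw [if_neg hxa] at this
    exact this
  · have := h (s.equivFin ⟨a, ha⟩)
    simp only [Equiv.symm_apply_apply, if_true] at this
    exact this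

/-! ### The action on words -/

/-- Moving a word by a permutation of the points. -/
def act (σ : Equiv.Perm GolayPt) (w : GolayPt → ZMod 2) : GolayPt → ZMod 2 := fun p => w (σ.symm p)

theorem act_apply (σ : Equiv.Perm GolayPt) (w : GolayPt → ZMod 2) (p : GolayPt) :
    act σ w p = w (σ.symm p) := rfl

theorem act_add (σ : Equiv.Perm GolayPt) (v w : GolayPt → ZMod 2) :
    act σ (v + w) = act σ v + act σ w := rfl

theorem act_ind (σ : Equiv.Perm GolayPt) (s : Finset GolayPt) : act σ (ind s) = ind (s.map σ.toEmbedding) := by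
  funext p
  rw [act_apply, ind_apply, ind_apply]
  congr 1
  rw [Finset.mem_map_equiv]

theorem act_mem {σ : Equiv.Perm GolayPt} (hσ : σ ∈ M24) {w : GolayPt → ZMod 2}
    (hw : w ∈ golayCode) : act σ w ∈ golayCode :=
  (SporadicA.M24Mem.mem_M24_iff σ).1 hσ w hw

theorem hammingNorm_act (σ : Equiv.Perm GolayPt) (w : GolayPt → ZMod 2) :
    hammingNorm (act σ w) = hammingNorm w := by
  unfold hammingNorm
  apply Finset.card_bij (fun p _ => σ.symm p)
  · intro p hp
    rw [Finset.mem_filter] at hp ⊢
    exact ⟨Finset.mem_univ _, hp.2⟩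
  · intro p _ q _ h
    exact σ.symm.injective h
  · intro p hp
    refine ⟨σ p, ?_, by simp⟩
    rw [Finset.mem_filter] at hp ⊢
    refine ⟨Finset.mem_univ _, ?_⟩
    rw [act_apply, Equiv.symm_apply_apply]
    exact hp.2

/-- A subspace is invariant under the group of the code. -/
def Inv (W : Submodule (ZMod 2) (GolayPt → ZMod 2)) : Prop :=
  ∀ σ ∈ M24, ∀ w ∈ W, act σ w ∈ W

theorem support_eq (w : GolayPt → ZMod 2) : support₂ w = Finset.univ.filter fun p => w p ≠ 0 := rfl

theorem ind_support₂ (w : GolayPt → ZMod 2) : ind (support₂ w) = w := ind_support w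

theorem support₂_ind (s : Finset GolayPt) : support₂ (ind s) = s := by
  apply ind_inj
  rw [ind_support₂]

theorem ind_mem_iff (s : Finset GolayPt) :
    ind s ∈ golayCode ↔ s ∈ supports (golayCode : Set (GolayPt → ZMod 2)) := by
  constructor
  · intro h
    exact ⟨ind s, h, support₂_ind s⟩
  · rintro ⟨w, hw, rfl⟩
    rw [ind_support₂]
    exact hw

theorem mem_octads_iff (s : Finset GolayPt) : s ∈ octads ↔ ind s ∈ golayCode ∧ s.card = 8 := by
  rw [ind_mem_iff]
  exact Iff.rfl

theorem mem_dodecads_iff (s : Finset GolayPt) : s ∈ dodecads ↔ ind s ∈ golayCode ∧ s.card = 12 := by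
  rw [ind_mem_iff]
  exact Iff.rfl

theorem smul_eq_map (g : M24) (s : Finset GolayPt) :
    g • s = s.map (g : Equiv.Perm GolayPt).toEmbedding := by
  ext p
  rw [Finset.mem_smul_finset, Finset.mem_map]
  exact Iff.rfl

/-- All words of weight 8 in the code are conjugate. -/
theorem octad_act {v w : GolayPt → ZMod 2} (hv : v ∈ golayCode) (hw : w ∈ golayCode)
    (h8 : hammingNorm v = 8) (h8' : hammingNorm w = 8) : ∃ σ ∈ M24, act σ v = w := by
  have h1 : support₂ v ∈ octads := by
    rw [mem_octads_iff, ind_support₂]; exact ⟨hv, h8⟩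
  have h2 : support₂ w ∈ octads := by
    rw [mem_octads_iff, ind_support₂]; exact ⟨hw, h8'⟩
  obtain ⟨g, hg⟩ := Cfsg.Agent.S0367.result _ _ h1 h2
  refine ⟨g, g.2, ?_⟩
  rw [smul_eq_map] at hg
  rw [← ind_support₂ v, act_ind, hg, ind_support₂]

/-- All words of weight 12 in the code are conjugate. -/
theorem dodecad_act {v w : GolayPt → ZMod 2} (hv : v ∈ golayCode) (hw : w ∈ golayCode)
    (h8 : hammingNorm v = 12) (h8' : hammingNorm w = 12) : ∃ σ ∈ M24, act σ v = w := by
  have h1 : support₂ v ∈ dodecads := by
    rw [mem_dodecads_iff, ind_support₂]; exact ⟨hv, h8⟩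
  have h2 : support₂ w ∈ dodecads := by
    rw [mem_dodecads_iff, ind_support₂]; exact ⟨hw, h8'⟩
  obtain ⟨g, hg⟩ := Cfsg.Agent.S0368.result _ _ h1 h2
  refine ⟨g, g.2, ?_⟩
  rw [smul_eq_map] at hg
  rw [← ind_support₂ v, act_ind, hg, ind_support₂]

/-- An invariant subspace containing a word of weight 8 of the code contains the code. -/
theorem code_le_of_octad {W : Submodule (ZMod 2) (GolayPt → ZMod 2)} (hW : Inv W)
    {w : GolayPt → ZMod 2} (hw : w ∈ W) (hc : w ∈ golayCode) (h8 : hammingNorm w = 8) :
    golayCode ≤ W := by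
  rw [SporadicA.OctadSpan.golayCode_eq_span_octads, Submodule.span_le]
  intro v hv
  have hv' : support₂ v ∈ octads := hv
  rw [mem_octads_iff, ind_support₂] at hv'
  obtain ⟨σ, hσ, h⟩ := octad_act hc hv'.1 h8 hv'.2
  rw [← h]
  exact hW σ hσ w hw

theorem one_eq_word : (1 : GolayPt → ZMod 2) = word 16777215 := by
  funext p; revert p; decide +kernel

theorem eq_one_of_norm {w : GolayPt → ZMod 2} (h : hammingNorm w = 24) : w = 1 := by
  funext p
  by_contra hp
  have h0 : w p = 0 := (z2 (w p)).resolve_right hp
  have : (Finset.univ.filter fun q => w q ≠ 0) ⊆ Finset.univ.erase p := by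
    intro q hq
    simp only [Finset.mem_filter, Finset.mem_univ, true_and] at hq
    rw [Finset.mem_erase]
    refine ⟨?_, Finset.mem_univ _⟩
    rintro rfl
    exact hq h0
  have h1 := Finset.card_le_card this
  rw [Finset.card_erase_of_mem (Finset.mem_univ _)] at h1
  unfold hammingNorm at h
  rw [h] at h1
  have : Fintype.card GolayPt = 24 := by decide
  rw [Finset.card_univ, this] at h1
  omega

theorem hammingNorm_one_add (w : GolayPt → ZMod 2) : hammingNorm (1 + w) = 24 - hammingNorm w := by
  have h1 : (Finset.univ.filter fun p => (1 + w) p ≠ 0) = (Finset.univ.filter fun p => w p ≠ 0)ᶜ := by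
    ext p
    simp only [Finset.mem_filter, Finset.mem_univ, true_and, Finset.mem_compl, Pi.add_apply,
      Pi.one_apply]
    rcases z2 (w p) with h | h <;> rw [h] <;> decide
  unfold hammingNorm
  rw [h1, Finset.card_compl]
  have : Fintype.card GolayPt = 24 := by decide
  rw [this]

theorem one_mem : (1 : GolayPt → ZMod 2) ∈ golayCode := Golay.Core.one_mem

theorem word_facts : word 13062145 ∈ golayCode ∧ word 4845570 ∈ golayCode ∧ word 9347075 ∈ golayCode ∧
    word 8245261 ∈ golayCode ∧ word 15953934 ∈ golayCode := by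
  simp only [Golay.Core.word_mem_golayCode_iff (show 13062145 < 2 ^ 24 by norm_num),
    Golay.Core.word_mem_golayCode_iff (show 4845570 < 2 ^ 24 by norm_num),
    Golay.Core.word_mem_golayCode_iff (show 9347075 < 2 ^ 24 by norm_num),
    Golay.Core.word_mem_golayCode_iff (show 8245261 < 2 ^ 24 by norm_num),
    Golay.Core.word_mem_golayCode_iff (show 15953934 < 2 ^ 24 by norm_num)]
  decide +kernel

theorem norm_facts : hammingNorm (word 13062145) = 8 ∧ hammingNorm (word 4845570) = 8 ∧
    hammingNorm (word 9347075) = 8 ∧ hammingNorm (word 8245261) = 12 ∧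
    hammingNorm (word 15953934) = 12 := by
  rw [Golay.Core.hammingNorm_word (show 13062145 < 2 ^ 24 by norm_num),
    Golay.Core.hammingNorm_word (show 4845570 < 2 ^ 24 by norm_num),
    Golay.Core.hammingNorm_word (show 9347075 < 2 ^ 24 by norm_num),
    Golay.Core.hammingNorm_word (show 8245261 < 2 ^ 24 by norm_num),
    Golay.Core.hammingNorm_word (show 15953934 < 2 ^ 24 by norm_num)]
  decide +kernel

theorem sum_facts : word 13062145 + word 4845570 = word 9347075 ∧
    word 8245261 + word 15953934 = word 9347075 := by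
  rw [← Golay.Core.word_xor, ← Golay.Core.word_xor]
  constructor <;> congr 1

/-- An invariant subspace containing a word of the code different from the two constant ones contains the code. -/
theorem code_le_of_mem {W : Submodule (ZMod 2) (GolayPt → ZMod 2)} (hW : Inv W)
    {w : GolayPt → ZMod 2} (hw : w ∈ W) (hc : w ∈ golayCode) (h0 : w ≠ 0) (h1 : w ≠ 1) :
    golayCode ≤ W := by
  obtain ⟨c1, c2, c3, c4, c5⟩ := word_facts
  obtain ⟨n1, n2, n3, n4, n5⟩ := norm_facts
  obtain ⟨s1, s2⟩ := sum_facts
  rcases Golay.Core.weight_cases hc with h | h | h | h | h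
  · exact absurd (by rwa [hammingNorm_eq_zero] at h) h0
  · exact code_le_of_octad hW hw hc h
  · -- two dodecads whose sum is an octad
    obtain ⟨σ, hσ, h2⟩ := dodecad_act hc c4 h n4
    obtain ⟨τ, hτ, h3⟩ := dodecad_act hc c5 h n5
    refine code_le_of_octad hW (w := word 9347075) ?_ c3 n3
    rw [← s2, ← h2, ← h3]
    exact W.add_mem (hW σ hσ w hw) (hW τ hτ w hw)
  · -- the complement of an octad
    have hc' : 1 + w ∈ golayCode := golayCode.add_mem one_mem hc
    have h' : hammingNorm (1 + w) = 8 := by rw [hammingNorm_one_add, h]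
    obtain ⟨σ, hσ, h2⟩ := octad_act hc' c1 h' n1
    obtain ⟨τ, hτ, h3⟩ := octad_act hc' c2 h' n2
    refine code_le_of_octad hW (w := word 9347075) ?_ c3 n3
    have h4 : act σ w + act τ w = word 9347075 := by
      rw [← s1, ← h2, ← h3, act_add, act_add]
      have e1 : act σ 1 = 1 := rfl
      have e2 : act τ 1 = 1 := rfl
      rw [e1, e2, add_add_add_comm, add_self, zero_add]
    rw [← h4]
    exact W.add_mem (hW σ hσ w hw) (hW τ hτ w hw)
  · exact absurd (eq_one_of_norm h) h1

/-- The invariant subspaces of the code. -/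
theorem code_cases {W : Submodule (ZMod 2) (GolayPt → ZMod 2)} (hW : Inv W) (hle : W ≤ golayCode) :
    W = ⊥ ∨ W = Submodule.span (ZMod 2) {fun _ => (1 : ZMod 2)} ∨ W = golayCode := by
  by_cases h : ∃ w ∈ W, w ≠ 0 ∧ w ≠ 1
  · obtain ⟨w, hw, h0, h1⟩ := h
    exact Or.inr (Or.inr (le_antisymm hle (code_le_of_mem hW hw (hle hw) h0 h1)))
  · push Not at h
    by_cases h1 : (1 : GolayPt → ZMod 2) ∈ W
    · right; left
      apply le_antisymm
      · intro w hw
        rw [Submodule.mem_span_singleton]
        by_cases h0 : w = 0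
        · exact ⟨0, by rw [h0, zero_smul]⟩
        · exact ⟨1, by rw [h w hw h0]; rfl⟩
      · rw [Submodule.span_singleton_le_iff_mem]
        exact h1
    · left
      rw [Submodule.eq_bot_iff]
      intro w hw
      by_contra h0
      rw [h w hw h0] at hw
      exact h1 hw

/-! ### Duads -/

theorem sum_ind (s : Finset GolayPt) : ∑ p, ind s p = (s.card : ZMod 2) := by
  simp only [ind_apply, Finset.sum_ite_mem, Finset.univ_inter, Finset.sum_const, nsmul_eq_mul, mul_one]

theorem pair_eq (x y : GolayPt) (h : x ≠ y) : ind {x, y} = ind {x} + ind {y} := by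
  funext p
  show _ = ind {x} p + ind {y} p
  simp only [ind_apply, Finset.mem_insert, Finset.mem_singleton]
  by_cases h1 : p = x
  · have h2 : p ≠ y := by rw [h1]; exact h
    simp [h1, h]
  · by_cases h2 : p = y <;> simp [h1, h2]
    intro h3
    exact absurd h3.symm (by rintro rfl; exact h rfl)

/-- An invariant subspace containing a pair contains all words of even weight. -/
theorem even_le_of_pair {W : Submodule (ZMod 2) (GolayPt → ZMod 2)} (hW : Inv W) {x y : GolayPt}
    (hxy : x ≠ y) (h : ind {x, y} ∈ W) (w : GolayPt → ZMod 2) (hw : ∑ p, w p = 0) : w ∈ W := by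
  have hall : ∀ a b : GolayPt, ind {a} + ind {b} ∈ W := by
    intro a b
    by_cases hab : a = b
    · rw [hab, add_self]; exact W.zero_mem
    · obtain ⟨σ, hσ, h1, h2⟩ := exists_perm_two hxy hab
      have := hW σ hσ _ h
      rw [act_ind] at this
      rw [← pair_eq a b hab]
      simpa [Finset.map_insert, Finset.map_singleton, h1, h2] using this
  have hrep : w = ∑ p, w p • (ind {p} + ind {(none : GolayPt)}) := by
    simp only [smul_add, Finset.sum_add_distrib, ← Finset.sum_smul, hw, zero_smul, add_zero]
    funext q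
    rw [Finset.sum_apply, Finset.sum_eq_single q]
    · rw [Pi.smul_apply, ind_apply, if_pos (Finset.mem_singleton_self _), smul_eq_mul, mul_one]
    · intro b _ hb
      rw [Pi.smul_apply, ind_apply, if_neg (by rw [Finset.mem_singleton]; exact hb.symm), smul_zero]
    · intro hq
      exact absurd (Finset.mem_univ q) hq
  rw [hrep]
  exact W.sum_mem fun p _ => W.smul_mem _ (hall p none)

/-- An invariant subspace not contained in the code contains a word congruent to a pair modulo the code. -/
theorem exists_pair_add {W : Submodule (ZMod 2) (GolayPt → ZMod 2)} (hW : Inv W) (hle : ¬ W ≤ golayCode) :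
    ∃ x y : GolayPt, x ≠ y ∧ ∃ c ∈ golayCode, ind {x, y} + c ∈ W := by
  obtain ⟨w, hw, hwc⟩ := Set.not_subset.mp hle
  obtain ⟨s, hs, hsc⟩ := exists_leader w
  have hne : s.Nonempty := by
    rw [Finset.nonempty_iff_ne_empty]
    rintro rfl
    apply hwc
    have : ind ∅ = 0 := by funext p; simp [ind_apply]
    rwa [this, add_zero] at hsc
  obtain ⟨a, ha⟩ := hne
  obtain ⟨b, hb⟩ : ∃ b : GolayPt, b ∉ s := by
    by_contra hall
    push Not at hall
    have : s = Finset.univ := Finset.eq_univ_iff_forall.mpr hall
    rw [this] at hs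
    exact absurd hs (by decide)
  obtain ⟨σ, hσ, h1, h2⟩ := exists_perm_replace hs ha hb
  have hab : a ≠ b := fun h => hb (h ▸ ha)
  refine ⟨a, b, hab, (w + ind s) + act σ (w + ind s), golayCode.add_mem hsc (act_mem hσ hsc), ?_⟩
  have hmap : s.map σ.toEmbedding = insert b (s.erase a) := by
    ext p
    simp only [Finset.mem_map, Equiv.toEmbedding_apply, Finset.mem_insert, Finset.mem_erase]
    constructor
    · rintro ⟨q, hq, rfl⟩
      by_cases hqa : q = a
      · left; rw [hqa, h2]
      · right; rw [h1 q hq hqa]; exact ⟨hqa, hq⟩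
    · rintro (rfl | ⟨hpa, hp⟩)
      · exact ⟨a, ha, h2⟩
      · exact ⟨p, hp, h1 p hp hpa⟩
  have hsum : ind {a, b} + (ind s + act σ (ind s)) = 0 := by
    rw [act_ind, hmap]
    funext p
    show ind {a, b} p + (ind s p + ind (insert b (s.erase a)) p) = 0
    simp only [ind_apply, Finset.mem_insert, Finset.mem_erase, Finset.mem_singleton]
    by_cases h3 : p = a
    · subst h3
      simp [ha, hab]
      decide
    · by_cases h4 : p = b
      · subst h4
        simp [hb]
        decide
      · by_cases h5 : p ∈ s <;> simp [h3, h4, h5]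
        decide
  have : ind {a, b} + ((w + ind s) + act σ (w + ind s)) = w + act σ w := by
    rw [act_add]
    calc ind {a, b} + ((w + ind s) + (act σ w + act σ (ind s)))
        = (w + act σ w) + (ind {a, b} + (ind s + act σ (ind s))) := by abel
      _ = w + act σ w := by rw [hsum, add_zero]
  rw [this]
  exact W.add_mem hw (hW σ hσ w hw)

/-- A word of the code constant off a pair is constant. -/
theorem const_of_const_off {c : GolayPt → ZMod 2} (hc : c ∈ golayCode) {x y : GolayPt}
    (h : ∀ p q : GolayPt, p ≠ x → p ≠ y → q ≠ x → q ≠ y → c p = c q) : c = 0 ∨ c = 1 := by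
  have key : ∀ d : GolayPt → ZMod 2, d ∈ golayCode → (∀ p, p ≠ x → p ≠ y → d p = 0) → d = 0 := by
    intro d hd h0
    apply eq_zero_of_lt hd
    have : (Finset.univ.filter fun p => d p ≠ 0) ⊆ {x, y} := by
      intro p hp
      simp only [Finset.mem_filter, Finset.mem_univ, true_and] at hp
      by_contra hxy
      simp only [Finset.mem_insert, Finset.mem_singleton, not_or] at hxy
      exact hp (h0 p hxy.1 hxy.2)
    have h2 := Finset.card_le_card this
    unfold hammingNorm
    have h3 : ({x, y} : Finset GolayPt).card ≤ 2 := Finset.card_le_two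
    omega
  obtain ⟨z, hzx, hzy⟩ : ∃ z : GolayPt, z ≠ x ∧ z ≠ y := by
    have : ∀ x y : GolayPt, ∃ z : GolayPt, z ≠ x ∧ z ≠ y := by decide +kernel
    exact this x y
  rcases z2 (c z) with hz | hz
  · left
    exact key c hc fun p hp hq => by rw [h p z hp hq hzx hzy, hz]
  · right
    have := key (1 + c) (golayCode.add_mem one_mem hc) fun p hp hq => by
      rw [Pi.add_apply, h p z hp hq hzx hzy, hz, Pi.one_apply]; decide
    calc c = 1 + (1 + c) := by rw [← add_assoc, add_self, zero_add]
      _ = 1 := by rw [this, add_zero]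

/-- An invariant subspace not contained in the code contains all words of even weight. -/
theorem even_le {W : Submodule (ZMod 2) (GolayPt → ZMod 2)} (hW : Inv W) (hle : ¬ W ≤ golayCode)
    (w : GolayPt → ZMod 2) (hw : ∑ p, w p = 0) : w ∈ W := by
  obtain ⟨x, y, hxy, c, hc, hcW⟩ := exists_pair_add hW hle
  suffices ∃ a b : GolayPt, a ≠ b ∧ ind {a, b} ∈ W by
    obtain ⟨a, b, hab, h⟩ := this
    exact even_le_of_pair hW hab h w hw
  by_cases hbig : golayCode ≤ W
  · refine ⟨x, y, hxy, ?_⟩
    have := W.add_mem hcW (hbig hc)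
    rwa [add_assoc, add_self, add_zero] at this
  -- the word `c` is fixed by the stabiliser of the two points
  have hfix : ∀ τ ∈ M24, τ x = x → τ y = y → act τ c = c := by
    intro τ hτ hx hy
    have h1 : act τ (ind {x, y}) = ind {x, y} := by
      rw [act_ind]
      simp [Finset.map_insert, Finset.map_singleton, hx, hy]
    have h2 : c + act τ c ∈ W := by
      have := W.add_mem hcW (hW τ hτ _ hcW)
      rw [act_add, h1, add_add_add_comm, add_self, zero_add] at this
      exact this
    by_contra hne
    apply hbig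
    apply code_le_of_mem hW h2 (golayCode.add_mem hc (act_mem hτ hc))
    · intro h0
      apply hne
      calc act τ c = c + (c + act τ c) := by rw [← add_assoc, add_self, zero_add]
        _ = c := by rw [h0, add_zero]
    · intro h1
      have h3 := congrFun h1 x
      rw [Pi.add_apply, act_apply] at h3
      have : τ.symm x = x := by rw [Equiv.symm_apply_eq]; exact hx.symm
      rw [this, Pi.one_apply] at h3
      rcases z2 (c x) with h4 | h4 <;> rw [h4] at h3 <;> exact absurd h3 (by decide)
  have hconst : c = 0 ∨ c = 1 := by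
    apply const_of_const_off (x := x) (y := y) hc
    intro p q hpx hpy hqx hqy
    obtain ⟨τ, hτ, h1, h2, h3⟩ := exists_perm_three (z := q) (z' := p) hxy (Ne.symm hqx) (Ne.symm hqy) hxy
      (Ne.symm hpx) (Ne.symm hpy)
    have := congrFun (hfix τ hτ h1 h2) p
    rw [act_apply] at this
    have h4 : τ.symm p = q := by rw [Equiv.symm_apply_eq]; exact h3.symm
    rw [h4] at this
    exact this.symm
  rcases hconst with rfl | rfl
  · refine ⟨x, y, hxy, ?_⟩
    rwa [add_zero] at hcW
  · obtain ⟨z, hzx, hzy⟩ : ∃ z : GolayPt, z ≠ x ∧ z ≠ y := by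
      have : ∀ x y : GolayPt, ∃ z : GolayPt, z ≠ x ∧ z ≠ y := by decide +kernel
      exact this x y
    obtain ⟨τ, hτ, h1, h2⟩ := exists_perm_two hxy (Ne.symm hzx)
    refine ⟨y, z, Ne.symm hzy, ?_⟩
    have h3 := W.add_mem hcW (hW τ hτ _ hcW)
    have h4 : act τ 1 = 1 := rfl
    have h5 : act τ (ind {x, y}) = ind {x, z} := by
      rw [act_ind]
      simp [Finset.map_insert, Finset.map_singleton, h1, h2]
    rw [act_add, h4, h5, add_add_add_comm, add_self, add_zero] at h3
    rw [pair_eq x y hxy, pair_eq x z (Ne.symm hzx), add_add_add_comm, add_self, zero_add] at h3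
    rw [pair_eq y z (Ne.symm hzy)]
    exact h3

/-- The invariant subspaces of the permutation module. -/
theorem inv_cases {W : Submodule (ZMod 2) (GolayPt → ZMod 2)} (hW : Inv W) :
    W = ⊥ ∨ W = Submodule.span (ZMod 2) {fun _ => (1 : ZMod 2)} ∨ W = golayCode ∨
      (W : Set (GolayPt → ZMod 2)) = {w | ∑ p, w p = 0} ∨ W = ⊤ := by
  by_cases hle : W ≤ golayCode
  · rcases code_cases hW hle with h | h | h
    · exact Or.inl h
    · exact Or.inr (Or.inl h)
    · exact Or.inr (Or.inr (Or.inl h))
  · right; right; right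
    have heven := even_le hW hle
    by_cases hodd : ∃ w ∈ W, ∑ p, w p ≠ 0
    · right
      rw [eq_top_iff]
      intro v _
      obtain ⟨w, hw, hw1⟩ := hodd
      rcases z2 (∑ p, v p) with h | h
      · exact heven v h
      · have h1 : v + w ∈ W := by
          apply heven
          simp only [Pi.add_apply, Finset.sum_add_distrib]
          rw [h, (z2 _).resolve_left hw1]
          decide
        have := W.add_mem h1 hw
        rwa [add_assoc, add_self, add_zero] at this
    · left
      push Not at hodd
      ext w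
      exact ⟨fun h => hodd w h, fun h => heven w h⟩

end Cfsg.Agent.H852.GolayMod
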