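import Cfsg.Agent.H852.IMPerm
import Cfsg.Agent.H852.IMRankThree
import Cfsg.Agent.SporadicStructure.M23Index253
import Cfsg.Agent.CoThreeStd.M12.Model
import Cfsg.Agent.S0352
import Cfsg.Agent.S0361
import Cfsg.Agent.S0363
import Cfsg.Agent.S0364
import Cfsg.Agent.S0366
import Cfsg.Agent.S0368
import Cfsg.Agent.S0378
import Cfsg.Agent.S0376
import Cfsg.Agent.S0382
import Cfsg.Agent.S0384
import Cfsg.Agent.S0387
import Cfsg.Agent.S0389
import Cfsg.Agent.S1560
import Cfsg.Agent.S1561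
import Cfsg.Agent.S1604
import Cfsg.Agent.S1605
import Cfsg.Agent.H113.PSU.Rank3_m3
import Cfsg.Agent.SporadicA.Dodecad
import Cfsg.Agent.S1639
import Cfsg.Agent.Prune
set_option linter.all false

section
prune_inst 0x7f00000000000000000000000000000000000000000000000000000000000000000000000000000000000000000000000000000000000000000000000000000000000000000000000000000000000000003fffffffffffffffffffffffffffbeffbdffffffff

-- part: H852/IMMathieu
section
set_option linter.all false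
open scoped Cfsg.Agent.FastGrp

/-!
# Itô-Michler for the Mathieu groups (helper852)
-/

set_option autoImplicit false
open scoped Pointwise
open Cfsg

namespace Cfsg.Agent.H852.IMMathieu

open Cfsg.Agent.H33 Cfsg.Agent.H852.IMPerm Cfsg.Agent.H852.IMRankThree Cfsg.Agent.H690.Spor.RankThree

section perm

variable {Ω : Type*}

/-- The action of a permutation group on an invariant set. -/
@[reducible] def actOn (H : Subgroup (Equiv.Perm Ω)) (d : Set Ω) (hd : ∀ g ∈ H, ∀ x ∈ d, g x ∈ d) :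
    MulAction H d where
  smul g x := ⟨g.1 x.1, hd g.1 g.2 x.1 x.2⟩
  one_smul _ := rfl
  mul_smul _ _ _ := rfl

theorem trans_on (H : Subgroup (Equiv.Perm Ω)) (d : Set Ω) (hd : ∀ g ∈ H, ∀ x ∈ d, g x ∈ d) (k : ℕ)
    (h : ∀ x y : Fin k ↪ Ω, (∀ i, x i ∈ d) → (∀ i, y i ∈ d) → ∃ g ∈ H, ∀ i, g (x i) = y i) :
    letI := actOn H d hd
    MulAction.IsMultiplyPretransitive H d k := by
  let _ := actOn H d hd
  rw [MulAction.isMultiplyPretransitive_iff]
  intro x y
  obtain ⟨g, hg, hxy⟩ := h (x.trans (Function.Embedding.subtype _)) (y.trans (Function.Embedding.subtype _))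
    (fun i => (x i).2) (fun i => (y i).2)
  refine ⟨⟨g, hg⟩, ?_⟩
  ext i
  exact hxy i

/-- `IM` for a group of permutations `k`-transitive on an invariant set, `4 ≤ k`. -/
theorem im_perm_four [Finite Ω] (H : Subgroup (Equiv.Perm Ω)) (d : Set Ω) (hd : ∀ g ∈ H, ∀ x ∈ d, g x ∈ d)
    (k : ℕ) (h : ∀ x y : Fin k ↪ Ω, (∀ i, x i ∈ d) → (∀ i, y i ∈ d) → ∃ g ∈ H, ∀ i, g (x i) = y i)
    (hk : 4 ≤ k) {n : ℕ} (hn : Nat.card d = n) (hkn : k ≤ n) {p : ℕ}
    (hp : p ∣ n - 1 ∨ p ∣ (n - 1) * (n - 2) / 2 ∨ p ∣ n * (n - 3) / 2) : IM p H := by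
  let _ := actOn H d hd
  have h1 := trans_on H d hd k h
  have h2 : MulAction.IsMultiplyPretransitive H d 4 :=
    MulAction.isMultiplyPretransitive_of_le (n := k) hk (by omega)
  exact im_four h2 (by omega) (by rw [hn]; exact hp)

end perm

/-- Prime divisors from a factorization. -/
theorem prime_cases {p n : ℕ} (hp : p.Prime) (l : List ℕ) (hl : ∀ q ∈ l, q.Prime) (h : p ∣ n) (hn : n ∣ l.prod) :
    p ∈ l := by
  have h1 : p ∣ l.prod := h.trans hn
  rw [Prime.dvd_prod_iff hp.prime] at h1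
  obtain ⟨q, hq, hpq⟩ := h1
  rwa [(Nat.prime_dvd_prime_iff_eq hp (hl q hq)).1 hpq]

/-! ### orders -/

def eM11 : ↥(MulAction.stabilizer M24 Spor.squareDodecad ⊓ MulAction.stabilizer M24 (some 0 : GolayPt)) ≃*
    Spor.M11 where
  toFun g := ⟨((g : M24) : Equiv.Perm GolayPt), ⟨(g : M24).2, g.2.1⟩, g.2.2⟩
  invFun g := ⟨⟨(g : Equiv.Perm GolayPt), g.2.1.1⟩, g.2.1.2, g.2.2⟩
  left_inv _ := rfl
  right_inv _ := rfl
  map_mul' _ _ := rfl

def eM12 : ↥(MulAction.stabilizer M24 Spor.squareDodecad) ≃* Spor.M12 where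
  toFun g := ⟨((g : M24) : Equiv.Perm GolayPt), (g : M24).2, g.2⟩
  invFun g := ⟨⟨(g : Equiv.Perm GolayPt), g.2.1⟩, g.2.2⟩
  left_inv _ := rfl
  right_inv _ := rfl
  map_mul' _ _ := rfl

def eM23 : ↥(MulAction.stabilizer M24 (none : GolayPt)) ≃* Spor.M23 where
  toFun g := ⟨((g : M24) : Equiv.Perm GolayPt), (g : M24).2, g.2⟩
  invFun g := ⟨⟨(g : Equiv.Perm GolayPt), g.2.1⟩, g.2.2⟩
  left_inv _ := rfl
  right_inv _ := rfl
  map_mul' _ _ := rfl

def eM22 : ↥(MulAction.stabilizer M24 (none : GolayPt) ⊓ MulAction.stabilizer M24 (some 0 : GolayPt)) ≃*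
    Spor.M22 where
  toFun g := ⟨((g : M24) : Equiv.Perm GolayPt), ⟨(g : M24).2, g.2.1⟩, g.2.2⟩
  invFun g := ⟨⟨(g : Equiv.Perm GolayPt), g.2.1.1⟩, g.2.1.2, g.2.2⟩
  left_inv _ := rfl
  right_inv _ := rfl
  map_mul' _ _ := rfl

theorem dod_mem : Spor.squareDodecad ∈ dodecads := Cfsg.Agent.CoThreeStd.M12.dodecad_mem

theorem zero_mem : (some 0 : GolayPt) ∈ Spor.squareDodecad := by decide +kernel

theorem card_dod {d : Finset GolayPt} (hd : d ∈ dodecads) : d.card = 12 := by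
  obtain ⟨h1, h2⟩ := hd
  exact h2

theorem card_M11 : Nat.card Spor.M11 = 7920 := by
  rw [← Nat.card_congr eM11.toEquiv]
  exact Cfsg.Agent.S0387.result _ dod_mem _ zero_mem

theorem card_M12 : Nat.card Spor.M12 = 95040 := by
  rw [← Nat.card_congr eM12.toEquiv]
  exact Cfsg.Agent.S0382.result _ dod_mem

theorem card_M22 : Nat.card Spor.M22 = 443520 := by
  rw [← Nat.card_congr eM22.toEquiv]
  exact Cfsg.Agent.S0378.result _ _ (by simp)

theorem card_M23 : Nat.card Spor.M23 = 10200960 := by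
  rw [← Nat.card_congr eM23.toEquiv]
  exact Cfsg.Agent.S0376.result _

/-! ### the multiply transitive groups -/

theorem im_m11 {S : Type*} [Group S] (h : Spor.IsoM11 S) {p : ℕ} [hp' : Fact p.Prime] (hp : p ∣ Nat.card S) :
    IM p S := by
  obtain ⟨e⟩ := h
  rw [Nat.card_congr e.toEquiv, card_M11] at hp
  have hm := prime_cases hp'.out [2, 2, 2, 2, 3, 3, 5, 11] (by decide) hp (by decide)
  refine IM.of_equiv e ?_
  refine im_perm_four Spor.M11 ((Spor.squareDodecad : Set GolayPt) \ {some 0}) ?_ 4 ?_ le_rfl (n := 11) ?_ (by norm_num) ?_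
  · intro g hg x hx
    refine ⟨Cfsg.Agent.CoThreeStd.M12.smul_mem' hg.1 hx.1, fun h1 => hx.2 ?_⟩
    have h2 : g (some 0) = some 0 := hg.2
    exact g.injective ((show g x = some 0 from h1).trans h2.symm)
  · intro x y hx hy
    have hinj : ∀ z : Fin 4 ↪ GolayPt, (∀ i, z i ∈ (Spor.squareDodecad : Set GolayPt) \ {some 0}) →
        Function.Injective (Fin.cons (some 0) z : Fin 5 → GolayPt) := by
      intro z hz
      rw [Fin.cons_injective_iff]
      refine ⟨?_, z.injective⟩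
      rintro ⟨i, hi⟩
      exact (hz i).2 hi
    have hmem : ∀ z : Fin 4 ↪ GolayPt, (∀ i, z i ∈ (Spor.squareDodecad : Set GolayPt) \ {some 0}) →
        ∀ i, (Fin.cons (some 0) z : Fin 5 → GolayPt) i ∈ Spor.squareDodecad := by
      intro z hz i
      refine Fin.cases ?_ (fun j => ?_) i
      · exact zero_mem
      · exact (hz j).1
    obtain ⟨g, hg, -⟩ := Cfsg.Agent.S0384.result _ dod_mem ⟨_, hinj x hx⟩ ⟨_, hinj y hy⟩ (hmem x hx) (hmem y hy)
    exact ⟨((g : M24) : Equiv.Perm GolayPt), ⟨⟨(g : M24).2, g.2⟩, hg 0⟩, fun i => hg i.succ⟩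
  · rw [Nat.card_coe_set_eq, Set.ncard_diff_singleton_of_mem (by exact zero_mem), Set.ncard_coe_finset,
      card_dod dod_mem]
  · simp only [List.mem_cons, List.not_mem_nil, or_false] at hm
    rcases hm with rfl | rfl | rfl | rfl | rfl | rfl | rfl | rfl <;> decide

theorem im_m12 {S : Type*} [Group S] (h : Spor.IsoM12 S) {p : ℕ} [hp' : Fact p.Prime] (hp : p ∣ Nat.card S) :
    IM p S := by
  obtain ⟨e⟩ := h
  rw [Nat.card_congr e.toEquiv, card_M12] at hp
  have hm := prime_cases hp'.out [2, 2, 2, 2, 2, 2, 3, 3, 3, 5, 11] (by decide) hp (by decide)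
  refine IM.of_equiv e ?_
  refine im_perm_four Spor.M12 (Spor.squareDodecad : Set GolayPt) ?_ 5 ?_ (by norm_num) (n := 12) ?_ (by norm_num) ?_
  · intro g hg x hx
    exact Cfsg.Agent.CoThreeStd.M12.smul_mem' hg hx
  · intro x y hx hy
    obtain ⟨g, hg, -⟩ := Cfsg.Agent.S0384.result _ dod_mem x y hx hy
    exact ⟨((g : M24) : Equiv.Perm GolayPt), ⟨(g : M24).2, g.2⟩, hg⟩
  · rw [Nat.card_coe_set_eq, Set.ncard_coe_finset, card_dod dod_mem]
  · simp only [List.mem_cons, List.not_mem_nil, or_false] at hm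
    rcases hm with rfl | rfl | rfl | rfl | rfl | rfl | rfl | rfl | rfl | rfl | rfl <;> decide

theorem im_m23 {S : Type*} [Group S] (h : Spor.IsoM23 S) {p : ℕ} [hp' : Fact p.Prime] (hp : p ∣ Nat.card S) :
    IM p S := by
  obtain ⟨e⟩ := h
  rw [Nat.card_congr e.toEquiv, card_M23] at hp
  have hm := prime_cases hp'.out [2, 2, 2, 2, 2, 2, 2, 3, 3, 5, 7, 11, 23] (by decide) hp (by decide)
  refine IM.of_equiv e ?_
  refine im_perm_four Spor.M23 {x | x ≠ none} ?_ 4 ?_ le_rfl (n := 23) ?_ (by norm_num) ?_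
  · intro g hg x hx h1
    have h2 : g none = none := hg.2
    exact hx (g.injective (h1.trans h2.symm))
  · intro x y hx hy
    have hinj : ∀ z : Fin 4 ↪ GolayPt, (∀ i, z i ∈ {x : GolayPt | x ≠ none}) →
        Function.Injective (Fin.cons none z : Fin 5 → GolayPt) := by
      intro z hz
      rw [Fin.cons_injective_iff]
      refine ⟨?_, z.injective⟩
      rintro ⟨i, hi⟩
      exact hz i hi
    obtain ⟨g, hg⟩ := Cfsg.Agent.SporadicStructure.M23Index253.exists_map Cfsg.Agent.S0366.result le_rfl _ _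
      (hinj x hx) (hinj y hy)
    exact ⟨(g : Equiv.Perm GolayPt), ⟨g.2, hg 0⟩, fun i => hg i.succ⟩
  · have h1 : ({x | x ≠ none} : Set GolayPt) = Set.univ \ {none} := by
      ext x
      simp
    rw [Nat.card_coe_set_eq, h1, Set.ncard_diff_singleton_of_mem (Set.mem_univ _), Set.ncard_univ,
      Nat.card_eq_fintype_card]
    decide
  · simp only [List.mem_cons, List.not_mem_nil, or_false] at hm
    rcases hm with rfl | rfl | rfl | rfl | rfl | rfl | rfl | rfl | rfl | rfl | rfl | rfl | rfl <;> decide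

end Cfsg.Agent.H852.IMMathieu
end

-- part: H852/IMMathieu2
section
set_option linter.all false
open scoped Cfsg.Agent.FastGrp

-- part: H852/IMRankOf
section
/-!
# A constructor for rank 3 actions (helper852)
-/

set_option autoImplicit false

namespace Cfsg.Agent.H852.IMRankOf

open Cfsg.Agent.H690.Spor.RankThree

/-- Rank 3 from the orbits of the stabilizer of one point, given by a relation. -/
theorem r3_of {G X : Type*} [Group G] [MulAction G X] [Finite X] {R : X → X → Prop} {k l : ℕ}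
    (ht : MulAction.IsPretransitive G X) (hs : ∀ x y, R x y → R y x) (hi : ∀ x, ¬ R x x)
    (hinv : ∀ (g : G) x y, R x y → R (g • x) (g • y)) (x₀ : X)
    (h1 : ∀ y y', R x₀ y → R x₀ y' → ∃ g : G, g • x₀ = x₀ ∧ g • y = y')
    (h2 : ∀ y y', x₀ ≠ y → ¬ R x₀ y → x₀ ≠ y' → ¬ R x₀ y' → ∃ g : G, g • x₀ = x₀ ∧ g • y = y')
    (hk : Nat.card {y // R x₀ y} = k) (hl : Nat.card {y // x₀ ≠ y ∧ ¬ R x₀ y} = l)
    (k0 : 0 < k) (l0 : 0 < l) : R3 G X R k l := by
  classical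
  have hiff : ∀ (g : G) (x y : X), R (g • x) (g • y) ↔ R x y := by
    intro g x y
    refine ⟨fun h => ?_, hinv g x y⟩
    have h3 := hinv g⁻¹ _ _ h
    rwa [inv_smul_smul, inv_smul_smul] at h3
  refine ⟨ht, hs, hi, hinv, ?_, ?_, ?_, k0, l0, ?_⟩
  · intro x y x' y' hR hR'
    obtain ⟨a, ha⟩ := MulAction.exists_smul_eq G x x₀
    obtain ⟨b, hb⟩ := MulAction.exists_smul_eq G x' x₀
    obtain ⟨g, hg1, hg2⟩ := h1 (a • y) (b • y') (by rw [← ha, hiff]; exact hR) (by rw [← hb, hiff]; exact hR')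
    refine ⟨b⁻¹ * (g * a), ?_, ?_⟩
    · rw [mul_smul, mul_smul, ha, hg1, ← hb, inv_smul_smul]
    · rw [mul_smul, mul_smul, hg2, inv_smul_smul]
  · intro x y x' y' hxy hR hxy' hR'
    obtain ⟨a, ha⟩ := MulAction.exists_smul_eq G x x₀
    obtain ⟨b, hb⟩ := MulAction.exists_smul_eq G x' x₀
    obtain ⟨g, hg1, hg2⟩ := h2 (a • y) (b • y')
      (by rw [← ha]; exact fun h => hxy (MulAction.injective a h)) (by rw [← ha, hiff]; exact hR)
      (by rw [← hb]; exact fun h => hxy' (MulAction.injective b h)) (by rw [← hb, hiff]; exact hR')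
    refine ⟨b⁻¹ * (g * a), ?_, ?_⟩
    · rw [mul_smul, mul_smul, ha, hg1, ← hb, inv_smul_smul]
    · rw [mul_smul, mul_smul, hg2, inv_smul_smul]
  · intro x
    obtain ⟨a, ha⟩ := MulAction.exists_smul_eq G x x₀
    rw [← hk]
    refine Nat.card_congr ((MulAction.toPerm a).subtypeEquiv fun y => ?_)
    show R x y ↔ R x₀ (a • y)
    rw [← ha, hiff]
  · have e1 : Nat.card X = Nat.card {y // x₀ = y} + Nat.card {y // ¬ x₀ = y} := by
      rw [← Nat.card_sum]
      exact Nat.card_congr (Equiv.sumCompl _).symm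
    have e2 : Nat.card {y // ¬ x₀ = y} = Nat.card {y : {y // ¬ x₀ = y} // R x₀ y.1} +
        Nat.card {y : {y // ¬ x₀ = y} // ¬ R x₀ y.1} := by
      rw [← Nat.card_sum]
      exact Nat.card_congr (Equiv.sumCompl _).symm
    have e3 : Nat.card {y : {y // ¬ x₀ = y} // R x₀ y.1} = k := by
      rw [← hk]
      refine Nat.card_congr ⟨fun y => ⟨y.1.1, y.2⟩, fun y => ⟨⟨y.1, fun h => hi x₀ ?_⟩, y.2⟩, fun y => rfl,
        fun y => rfl⟩
      have h3 := y.2
      rwa [← h] at h3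
    have e4 : Nat.card {y : {y // ¬ x₀ = y} // ¬ R x₀ y.1} = l := by
      rw [← hl]
      exact Nat.card_congr ⟨fun y => ⟨y.1.1, y.1.2, y.2⟩, fun y => ⟨⟨y.1, y.2.1⟩, y.2.2⟩, fun y => rfl,
        fun y => rfl⟩
    have e5 : Nat.card {y // x₀ = y} = 1 := by
      rw [Nat.card_eq_one_iff_unique]
      exact ⟨⟨fun a b => Subtype.ext (a.2.symm.trans b.2)⟩, ⟨⟨x₀, rfl⟩⟩⟩
    rw [e1, e2, e3, e4, e5]
    omega

end Cfsg.Agent.H852.IMRankOf
end

-- part: H852/IMMathieu2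
section
/-!
# Itô-Michler for the Mathieu groups of degree 22 and 24 (helper852)
-/

set_option autoImplicit false
open scoped Pointwise
open Cfsg

namespace Cfsg.Agent.H852.IMMathieu

open Cfsg.Agent.H33 Cfsg.Agent.H852.IMPerm Cfsg.Agent.H852.IMRankThree Cfsg.Agent.H690.Spor.RankThree
open Cfsg.Agent.H852.IMRankOf Cfsg.Agent.SporadicA.Dodecad

/-- The action on an invariant subset. -/
@[reducible] def actSub {G Y : Type*} [Group G] [MulAction G Y] (P : Set Y) (h : ∀ (g : G), ∀ y ∈ P, g • y ∈ P) :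
    MulAction G P where
  smul g x := ⟨g • x.1, h g x.1 x.2⟩
  one_smul x := Subtype.ext (one_smul G x.1)
  mul_smul g g' x := Subtype.ext (mul_smul g g' x.1)

/-! ### M24 on the 1288 pairs of complementary dodecads -/

theorem smul_dod {g : Equiv.Perm GolayPt} (hg : g ∈ M24) {d : Finset GolayPt} (hd : d ∈ dodecads) :
    g • d ∈ dodecads := by
  have hg' : g • supports (golayCode : Set (GolayPt → ZMod 2)) = supports (golayCode : Set (GolayPt → ZMod 2)) := hg
  refine ⟨?_, ?_⟩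
  · rw [← hg']
    exact Set.smul_mem_smul_set hd.1
  · rw [Finset.card_smul_finset]
    exact hd.2

theorem smul_compl (g : Equiv.Perm GolayPt) (d : Finset GolayPt) : g • dᶜ = (g • d)ᶜ := by
  ext x
  rw [Finset.mem_compl, ← Finset.inv_smul_mem_iff, ← Finset.inv_smul_mem_iff, Finset.mem_compl]

/-- The pair of a dodecad and its complement. -/
def pr (d : Finset GolayPt) : Finset (Finset GolayPt) := {d, dᶜ}

theorem mem_pr {d e : Finset GolayPt} : e ∈ pr d ↔ e = d ∨ e = dᶜ := by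
  unfold pr
  rw [Finset.mem_insert, Finset.mem_singleton]

theorem pr_compl (d : Finset GolayPt) : pr dᶜ = pr d := by
  unfold pr
  rw [compl_compl, Finset.pair_comm]

theorem smul_pr (g : Equiv.Perm GolayPt) (d : Finset GolayPt) : g • pr d = pr (g • d) := by
  unfold pr
  rw [Finset.smul_finset_insert, Finset.smul_finset_singleton, smul_compl]

theorem pr_eq {d e : Finset GolayPt} (h : pr d = pr e) : d = e ∨ d = eᶜ := by
  have h1 : d ∈ pr d := mem_pr.2 (Or.inl rfl)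
  rw [h] at h1
  exact mem_pr.1 h1

/-- The set of complementary pairs. -/
def XD : Set (Finset (Finset GolayPt)) := {P | ∃ d ∈ dodecads, P = pr d}

/-- The relation. -/
def RD (P Q : XD) : Prop := ∃ d ∈ P.1, ∃ e ∈ Q.1, (d ∩ e).card = 4

theorem card_compl_inter {d e : Finset GolayPt} (he : e ∈ dodecads) : (d ∩ e).card + (dᶜ ∩ e).card = 12 := by
  rw [← card_dod he, Finset.inter_comm d, Finset.inter_comm dᶜ, ← Finset.sdiff_eq_inter_compl, Finset.card_inter_add_card_sdiff]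

theorem card_inter_compl {d e : Finset GolayPt} (hd : d ∈ dodecads) : (d ∩ e).card + (d ∩ eᶜ).card = 12 := by
  rw [← card_dod hd, ← Finset.sdiff_eq_inter_compl, Finset.card_inter_add_card_sdiff]

/-- The relation in terms of representatives. -/
theorem RD_iff {d e : Finset GolayPt} (hd : d ∈ dodecads) (he : e ∈ dodecads) :
    RD ⟨pr d, d, hd, rfl⟩ ⟨pr e, e, he, rfl⟩ ↔ (d ∩ e).card = 4 ∨ (d ∩ e).card = 8 := by
  have h1 := card_inter_compl (e := e) hd
  have h2 := card_compl_inter (d := d) he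
  have h3 := card_compl_inter (d := d) (compl_dodecad he)
  constructor
  · rintro ⟨a, ha, b, hb, hab⟩
    rcases mem_pr.1 ha with rfl | rfl <;> rcases mem_pr.1 hb with rfl | rfl <;> omega
  · rintro (h | h)
    · exact ⟨d, mem_pr.2 (Or.inl rfl), e, mem_pr.2 (Or.inl rfl), h⟩
    · exact ⟨d, mem_pr.2 (Or.inl rfl), eᶜ, mem_pr.2 (Or.inr rfl), by omega⟩

theorem hXD (g : M24) (P : Finset (Finset GolayPt)) (hP : P ∈ XD) : g • P ∈ XD := by
  obtain ⟨d, hd, rfl⟩ := hP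
  exact ⟨(g : Equiv.Perm GolayPt) • d, smul_dod g.2 hd, smul_pr g.1 d⟩

theorem r3_m24 : letI := actSub XD hXD; R3 M24 XD RD 495 792 := by
  let _ := actSub XD hXD
  have hsm : ∀ (g : M24) (P : XD), ((g • P : XD) : Finset (Finset GolayPt)) = g.1 • P.1 := fun g P => rfl
  set d₀ : Finset GolayPt := Spor.squareDodecad with hd₀
  have hd : d₀ ∈ dodecads := dod_mem
  have hS := Cfsg.Agent.S1560.result d₀ hd
  have hT := (Cfsg.Agent.S1639.result (some 0) d₀ hd zero_mem).2.2.1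
  have h4 : ∀ {e : Finset GolayPt}, e ∈ dodecads → (d₀ ∩ e).card + (d₀ ∩ eᶜ).card = 12 := fun _ => card_inter_compl hd
  have h0 : ∀ {e : Finset GolayPt}, e ∈ dodecads → (d₀ ∩ e).card = 0 → e = d₀ᶜ := by
    intro e he h
    apply Finset.eq_of_subset_of_card_le
    · intro x hx
      rw [Finset.mem_compl]
      intro hx'
      rw [Finset.card_eq_zero] at h
      have : x ∈ d₀ ∩ e := Finset.mem_inter.2 ⟨hx', hx⟩
      rw [h] at this
      exact absurd this (Finset.notMem_empty x)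
    · rw [card_dod he, card_dod (compl_dodecad hd)]
  have key : ∀ {e : Finset GolayPt} (he : e ∈ dodecads), (⟨pr d₀, d₀, hd, rfl⟩ : XD) ≠ ⟨pr e, e, he, rfl⟩ →
      ¬ RD ⟨pr d₀, d₀, hd, rfl⟩ ⟨pr e, e, he, rfl⟩ → (d₀ ∩ e).card = 6 := by
    intro e he hne hR
    rw [RD_iff hd he] at hR
    push Not at hR
    have hed : e ≠ d₀ := by
      rintro rfl
      exact hne rfl
    rcases hS.1 e he hed with h | h | h | h
    · exfalso
      apply hne
      apply Subtype.ext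
      show pr d₀ = pr e
      rw [h0 he h, pr_compl]
    · exact absurd h hR.1
    · exact h
    · exact absurd h hR.2
  refine r3_of ?_ ?_ ?_ ?_ ⟨pr d₀, d₀, hd, rfl⟩ ?_ ?_ ?_ ?_ (by norm_num) (by norm_num)
  · refine ⟨?_⟩
    rintro ⟨P, d, hd', rfl⟩ ⟨Q, e, he', rfl⟩
    obtain ⟨g, hg⟩ := Cfsg.Agent.S0368.result d e hd' he'
    refine ⟨g, Subtype.ext ?_⟩
    rw [hsm]
    show g.1 • pr d = pr e
    rw [smul_pr]
    exact congrArg pr hg
  · rintro P Q ⟨d, hd', e, he', h⟩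
    exact ⟨e, he', d, hd', by rw [Finset.inter_comm]; exact h⟩
  · rintro ⟨P, d, hd', rfl⟩ hR
    rw [RD_iff hd' hd', Finset.inter_self, card_dod hd'] at hR
    omega
  · rintro g P Q ⟨d, hd', e, he', h⟩
    refine ⟨g.1 • d, ?_, g.1 • e, ?_, ?_⟩
    · rw [hsm]; exact Finset.smul_mem_smul_finset hd'
    · rw [hsm]; exact Finset.smul_mem_smul_finset he'
    · rw [← Finset.smul_finset_inter, Finset.card_smul_finset]; exact h
  · have hrep : ∀ Q : XD, RD ⟨pr d₀, d₀, hd, rfl⟩ Q → ∃ e ∈ dodecads, Q.1 = pr e ∧ (d₀ ∩ e).card = 4 := by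
      rintro ⟨Q, e, he, rfl⟩ hR
      rw [RD_iff hd he] at hR
      rcases hR with h | h
      · exact ⟨e, he, rfl, h⟩
      · exact ⟨eᶜ, compl_dodecad he, (pr_compl e).symm, by have := h4 he; omega⟩
    intro Q Q' hQ hQ'
    obtain ⟨e, he, h1, h2⟩ := hrep Q hQ
    obtain ⟨e', he', h1', h2'⟩ := hrep Q' hQ'
    obtain ⟨g, hg, hg1, hg2⟩ := Cfsg.Agent.S1561.result d₀ e e' hd he he' (h2.trans h2'.symm)
    refine ⟨⟨g, hg⟩, Subtype.ext ?_, Subtype.ext ?_⟩
    · rw [hsm]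
      show g • pr d₀ = pr d₀
      rw [smul_pr, hg1]
    · rw [hsm, h1, h1']
      show g • pr e = pr e'
      rw [smul_pr, hg2]
  · rintro ⟨Q, e, he, rfl⟩ ⟨Q', e', he', rfl⟩ hne hR hne' hR'
    obtain ⟨g, hg, hg1, hg2⟩ := Cfsg.Agent.S1561.result d₀ e e' hd he he'
      ((key he hne hR).trans (key he' hne' hR').symm)
    refine ⟨⟨g, hg⟩, Subtype.ext ?_, Subtype.ext ?_⟩
    · rw [hsm]
      show g • pr d₀ = pr d₀
      rw [smul_pr, hg1]
    · rw [hsm]
      show g • pr e = pr e'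
      rw [smul_pr, hg2]
  · rw [← hS.2.1, ← Nat.card_coe_set_eq]
    symm
    refine Nat.card_eq_of_bijective (fun e => ⟨⟨pr e.1, e.1, e.2.1, rfl⟩, (RD_iff hd e.2.1).2 (Or.inl e.2.2)⟩) ⟨?_, ?_⟩
    · rintro ⟨e, he, hc⟩ ⟨e', he', hc'⟩ h
      have h5 : pr e = pr e' := congrArg (fun z => z.1.1) h
      rcases pr_eq h5 with h6 | h6
      · exact Subtype.ext h6
      · exfalso
        have h7 := h4 he'
        rw [← h6] at h7
        omega
    · rintro ⟨⟨Q, e, he, rfl⟩, hR⟩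
      rcases (RD_iff hd he).1 hR with h | h
      · exact ⟨⟨e, he, h⟩, rfl⟩
      · refine ⟨⟨eᶜ, compl_dodecad he, by have := h4 he; omega⟩, ?_⟩
        exact Subtype.ext (Subtype.ext (pr_compl e))
  · rw [← hT, ← Nat.card_coe_set_eq]
    symm
    have hmk : ∀ e : {d' : Finset GolayPt | d' ∈ dodecads ∧ some 0 ∈ d' ∧ (d₀ ∩ d').card = 6},
        (⟨pr d₀, d₀, hd, rfl⟩ : XD) ≠ ⟨pr e.1, e.1, e.2.1, rfl⟩ ∧ ¬ RD ⟨pr d₀, d₀, hd, rfl⟩ ⟨pr e.1, e.1, e.2.1, rfl⟩ := by
      rintro ⟨e, he, hx, hc⟩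
      constructor
      · intro h
        have h5 : pr d₀ = pr e := congrArg Subtype.val h
        rcases pr_eq h5 with h6 | h6
        · rw [← h6, Finset.inter_self, card_dod hd] at hc
          omega
        · have h7 : (some 0 : GolayPt) ∈ d₀ := zero_mem
          rw [h6, Finset.mem_compl] at h7
          exact h7 hx
      · rw [RD_iff hd he, hc]
        omega
    refine Nat.card_eq_of_bijective (fun e => ⟨⟨pr e.1, e.1, e.2.1, rfl⟩, hmk e⟩) ⟨?_, ?_⟩
    · rintro ⟨e, he, hx, hc⟩ ⟨e', he', hx', hc'⟩ h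
      have h5 : pr e = pr e' := congrArg (fun z => z.1.1) h
      rcases pr_eq h5 with h6 | h6
      · exact Subtype.ext h6
      · exfalso
        rw [h6, Finset.mem_compl] at hx
        exact hx hx'
    · rintro ⟨⟨Q, e, he, rfl⟩, hne, hR⟩
      have h6 := key he hne hR
      by_cases hx : (some 0 : GolayPt) ∈ e
      · exact ⟨⟨e, he, hx, h6⟩, rfl⟩
      · refine ⟨⟨eᶜ, compl_dodecad he, Finset.mem_compl.2 hx, by have := h4 he; omega⟩, ?_⟩
        exact Subtype.ext (Subtype.ext (pr_compl e))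

theorem im_m24 {S : Type*} [Group S] (h : Spor.IsoM24 S) {p : ℕ} [hp' : Fact p.Prime] (hp : p ∣ Nat.card S) :
    IM p S := by
  obtain ⟨e⟩ := h
  rw [Nat.card_congr e.toEquiv, Cfsg.Agent.S0364.result] at hp
  have hm := prime_cases hp'.out [2, 2, 2, 2, 2, 2, 2, 2, 2, 2, 3, 3, 3, 5, 7, 11, 23] (by decide) hp (by decide)
  refine IM.of_equiv e ?_
  by_cases h5 : p = 5
  · subst h5
    let _ := actSub XD hXD
    exact im_of_chk r3_m24 (Or.inl (by decide)) hp'.out (by decide +kernel)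
  refine im_perm_four M24 Set.univ ?_ 5 ?_ (by norm_num) (n := 24) ?_ (by norm_num) ?_
  · intro g _ x _
    trivial
  · intro x y _ _
    obtain ⟨g, hg⟩ := Cfsg.Agent.SporadicStructure.M23Index253.exists_map Cfsg.Agent.S0366.result le_rfl _ _
      x.injective y.injective
    exact ⟨(g : Equiv.Perm GolayPt), g.2, hg⟩
  · rw [Nat.card_coe_set_eq, Set.ncard_univ, Nat.card_eq_fintype_card]
    decide
  · simp only [List.mem_cons, List.not_mem_nil, or_false] at hm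
    rcases hm with rfl | rfl | rfl | rfl | rfl | rfl | rfl | rfl | rfl | rfl | rfl | rfl | rfl | rfl | rfl | rfl | rfl <;>
      first | (exact absurd rfl h5) | decide

/-! ### M22 -/

theorem smul_oct {g : Equiv.Perm GolayPt} (hg : g ∈ M24) {d : Finset GolayPt} (hd : d ∈ octads) :
    g • d ∈ octads := by
  have hg' : g • supports (golayCode : Set (GolayPt → ZMod 2)) = supports (golayCode : Set (GolayPt → ZMod 2)) := hg
  refine ⟨?_, ?_⟩
  · rw [← hg']
    exact Set.smul_mem_smul_set hd.1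
  · rw [Finset.card_smul_finset]
    exact hd.2

/-- The 77 hexads. -/
def XH : Set (Finset GolayPt) := {o | o ∈ octads ∧ none ∈ o ∧ some 0 ∈ o}

/-- The 176 heptads. -/
def XP : Set (Finset GolayPt) := {o | o ∈ octads ∧ none ∈ o ∧ some 0 ∉ o}

theorem mem_smul_fix {g : Equiv.Perm GolayPt} {x : GolayPt} (hg : g x = x) (o : Finset GolayPt) :
    x ∈ g • o ↔ x ∈ o := by
  have h : x = g • x := hg.symm
  conv_lhs => rw [h]
  exact Finset.smul_mem_smul_finset_iff g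

theorem hXH (g : Spor.M22) (o : Finset GolayPt) (ho : o ∈ XH) : g • o ∈ XH :=
  ⟨smul_oct g.2.1.1 ho.1, (mem_smul_fix g.2.1.2 o).2 ho.2.1, (mem_smul_fix g.2.2 o).2 ho.2.2⟩

theorem hXP (g : Spor.M22) (o : Finset GolayPt) (ho : o ∈ XP) : g • o ∈ XP :=
  ⟨smul_oct g.2.1.1 ho.1, (mem_smul_fix g.2.1.2 o).2 ho.2.1, fun h => ho.2.2 ((mem_smul_fix g.2.2 o).1 h)⟩

theorem inter_two_four {O O' : Finset GolayPt} (hO : O ∈ octads) (hO' : O' ∈ octads) (hne : O ≠ O')
    (x : GolayPt) (hx : x ∈ O) (hx' : x ∈ O') : (O ∩ O').card = 2 ∨ (O ∩ O').card = 4 := by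
  have hα : Fintype.card Cfsg.GolayPt = 24 := by simp
  have h0 : 0 < (O ∩ O').card := Finset.card_pos.2 ⟨x, Finset.mem_inter.2 ⟨hx, hx'⟩⟩
  rcases Cfsg.Agent.S0352.result hα Cfsg.Agent.S0363.result hO hO' hne with h | h | h <;> omega

theorem card_oct {d : Finset GolayPt} (hd : d ∈ octads) : d.card = 8 := by
  obtain ⟨h1, h2⟩ := hd
  exact h2

/-- Meeting in two points. -/
def R2 (P : Set (Finset GolayPt)) (x y : P) : Prop := (x.1 ∩ y.1).card = 2

/-- The common part of both rank 3 actions. -/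
theorem r3_m22 (P : Set (Finset GolayPt)) (hP : ∀ (g : Spor.M22), ∀ y ∈ P, g • y ∈ P)
    (hPo : ∀ o ∈ P, o ∈ octads ∧ none ∈ o) {k l : ℕ} (k0 : 0 < k) (l0 : 0 < l) (hne : P.Nonempty)
    (htr : ∀ o ∈ P, ∀ o' ∈ P, ∃ g : Equiv.Perm GolayPt, g ∈ M24 ∧ g none = none ∧ g (some 0) = some 0 ∧ g • o = o')
    (h : ∀ o ∈ P, {x | x ∈ P ∧ (o ∩ x).card = 2}.ncard = k ∧ {x | x ∈ P ∧ (o ∩ x).card = 4}.ncard = l ∧
      ∀ o' ∈ P, ∀ o'' ∈ P, (o ∩ o').card = (o ∩ o'').card → ∃ g : Equiv.Perm GolayPt, g ∈ M24 ∧ g none = none ∧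
        g (some 0) = some 0 ∧ g • o = o ∧ g • o' = o'') :
    letI := actSub P hP; R3 Spor.M22 P (R2 P) k l := by
  let _ := actSub P hP
  have hsm : ∀ (g : Spor.M22) (x : P), ((g • x : P) : Finset GolayPt) = g.1 • x.1 := fun g x => rfl
  obtain ⟨o, ho⟩ := hne
  obtain ⟨hk, hl, h3⟩ := h o ho
  have h24 : ∀ o' ∈ P, o ≠ o' → (o ∩ o').card = 2 ∨ (o ∩ o').card = 4 := fun o' ho' hne =>
    inter_two_four (hPo o ho).1 (hPo o' ho').1 hne none (hPo o ho).2 (hPo o' ho').2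
  refine r3_of ?_ ?_ ?_ ?_ ⟨o, ho⟩ ?_ ?_ ?_ ?_ k0 l0
  · refine ⟨?_⟩
    rintro ⟨x, hx⟩ ⟨y, hy⟩
    obtain ⟨g, h1, h2, h4, h5⟩ := htr x hx y hy
    exact ⟨⟨g, ⟨h1, h2⟩, h4⟩, Subtype.ext h5⟩
  · intro x y hR
    show (y.1 ∩ x.1).card = 2
    rw [Finset.inter_comm]
    exact hR
  · intro x hR
    have h1 : (x.1 ∩ x.1).card = 2 := hR
    rw [Finset.inter_self, card_oct (hPo x.1 x.2).1] at h1
    omega
  · intro g x y hR
    show ((g • x : P).1 ∩ (g • y : P).1).card = 2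
    rw [hsm, hsm, ← Finset.smul_finset_inter, Finset.card_smul_finset]
    exact hR
  · rintro ⟨x, hx⟩ ⟨y, hy⟩ hR hR'
    obtain ⟨g, h1, h2, h4, h5, h6⟩ := h3 x hx y hy ((show (o ∩ x).card = 2 from hR).trans (Eq.symm hR'))
    exact ⟨⟨g, ⟨h1, h2⟩, h4⟩, Subtype.ext h5, Subtype.ext h6⟩
  · rintro ⟨x, hx⟩ ⟨y, hy⟩ hne hR hne' hR'
    have h7 : (o ∩ x).card = 4 := (h24 x hx fun h => hne (Subtype.ext h)).resolve_left hR
    have h8 : (o ∩ y).card = 4 := (h24 y hy fun h => hne' (Subtype.ext h)).resolve_left hR'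
    obtain ⟨g, h1, h2, h4, h5, h6⟩ := h3 x hx y hy (h7.trans h8.symm)
    exact ⟨⟨g, ⟨h1, h2⟩, h4⟩, Subtype.ext h5, Subtype.ext h6⟩
  · rw [← hk, ← Nat.card_coe_set_eq]
    exact Nat.card_congr ⟨fun x => ⟨x.1.1, x.1.2, x.2⟩, fun x => ⟨⟨x.1, x.2.1⟩, x.2.2⟩, fun x => rfl, fun x => rfl⟩
  · rw [← hl, ← Nat.card_coe_set_eq]
    refine Nat.card_congr ⟨fun x => ⟨x.1.1, x.1.2, ?_⟩, fun x => ⟨⟨x.1, x.2.1⟩, ?_, ?_⟩, fun x => rfl, fun x => rfl⟩
    · exact (h24 x.1.1 x.1.2 fun h => x.2.1 (Subtype.ext h)).resolve_left x.2.2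
    · intro h
      have h1 : o = x.1 := congrArg Subtype.val h
      have h2 := x.2.2
      rw [← h1, Finset.inter_self, card_oct (hPo o ho).1] at h2
      omega
    · intro hR
      have h1 : (o ∩ x.1).card = 2 := hR
      have h2 := x.2.2
      omega

theorem XP_nonempty : XP.Nonempty := by
  have h := (Cfsg.Agent.S1605.result none (some 0) (by simp)).1
  by_contra hcon
  rw [Set.not_nonempty_iff_eq_empty] at hcon
  have h1 : XP.ncard = 176 := h
  rw [hcon, Set.ncard_empty] at h1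
  omega

theorem XH_nonempty : XH.Nonempty := by
  obtain ⟨o, ho, hn, h0⟩ := XP_nonempty
  -- an octad through the two points: five points determine one
  obtain ⟨s, hs, hsc⟩ : ∃ s : Finset GolayPt, {none, some 0} ⊆ s ∧ s.card = 5 := by
    obtain ⟨s, hs, -, hs2⟩ := Finset.exists_subsuperset_card_eq (s := {none, some 0}) (t := (Finset.univ : Finset GolayPt))
      (n := 5) (Finset.subset_univ _) (by decide) (by simp)
    exact ⟨s, hs, hs2⟩
  obtain ⟨b, ⟨hb, hsb⟩, -⟩ := Cfsg.Agent.S0363.result.2 s hsc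
  exact ⟨b, hb, hsb (hs (by simp)), hsb (hs (by simp))⟩

theorem XH_trans (o : Finset GolayPt) (ho : o ∈ XH) (o' : Finset GolayPt) (ho' : o' ∈ XH) :
    ∃ g : Equiv.Perm GolayPt, g ∈ M24 ∧ g none = none ∧ g (some 0) = some 0 ∧ g • o = o' := by
  obtain ⟨g, hg, h1, h2, h3⟩ := Cfsg.Agent.GolayOrbit.Flags.flagIn ho.1 ho.2.1 ho.2.2 (by simp)
  obtain ⟨g', hg', h1', h2', h3'⟩ := Cfsg.Agent.GolayOrbit.Flags.flagIn ho'.1 ho'.2.1 ho'.2.2 (by simp)
  refine ⟨g' * g⁻¹, M24.mul_mem hg' (M24.inv_mem hg), ?_, ?_, ?_⟩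
  · rw [Equiv.Perm.mul_apply, Equiv.Perm.inv_eq_iff_eq.2 h2.symm, h2']
  · rw [Equiv.Perm.mul_apply, Equiv.Perm.inv_eq_iff_eq.2 h3.symm, h3']
  · rw [mul_smul, ← h1, inv_smul_smul, h1']

theorem r3_hexads : letI := actSub XH hXH; R3 Spor.M22 XH (R2 XH) 16 60 := by
  refine r3_m22 XH hXH (fun o ho => ⟨ho.1, ho.2.1⟩) (by norm_num) (by norm_num) XH_nonempty XH_trans ?_
  intro o ho
  have hp : ∀ o' ∈ XH, ∀ o'' ∈ XH, (o ∩ o').card = (o ∩ o'').card → _ := fun o' ho' o'' ho'' hc =>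
    Cfsg.Agent.S1604.result none (some 0) (by simp) o o' o'' ho.1 ho'.1 ho''.1 ⟨ho.2.1, ho'.2.1, ho''.2.1⟩
      ⟨ho.2.2, ho'.2.2, ho''.2.2⟩ hc
  obtain ⟨h1, h2, -⟩ := hp o ho o ho rfl
  refine ⟨?_, ?_, fun o' ho' o'' ho'' hc => (hp o' ho' o'' ho'' hc).2.2⟩
  · rw [← h1]
    congr 1
    ext x
    show (_ ∧ _ ∧ _) ∧ _ ↔ _ ∧ _ ∧ _ ∧ _
    tauto
  · rw [← h2]
    congr 1
    ext x
    show (_ ∧ _ ∧ _) ∧ _ ↔ _ ∧ _ ∧ _ ∧ _
    tauto

theorem r3_heptads : letI := actSub XP hXP; R3 Spor.M22 XP (R2 XP) 70 105 := by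
  obtain ⟨-, h1, h2⟩ := Cfsg.Agent.S1605.result none (some 0) (by simp)
  exact r3_m22 XP hXP (fun o ho => ⟨ho.1, ho.2.1⟩) (by norm_num) (by norm_num) XP_nonempty (fun o ho o' ho' => h1 o o' ho ho')
    fun o ho => ⟨(h2 o ho).1, (h2 o ho).2.1, fun o' ho' o'' ho'' hc => (h2 o ho).2.2 o' o'' ho' ho'' hc⟩

theorem im_m22 {S : Type*} [Group S] (h : Spor.IsoM22 S) {p : ℕ} [hp' : Fact p.Prime] (hp : p ∣ Nat.card S) :
    IM p S := by
  obtain ⟨e⟩ := h
  rw [Nat.card_congr e.toEquiv, card_M22] at hp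
  have hm := prime_cases hp'.out [2, 2, 2, 2, 2, 2, 2, 3, 3, 5, 7, 11] (by decide) hp (by decide)
  refine IM.of_equiv e ?_
  by_cases h2 : p = 2
  · subst h2
    let _ := actSub XP hXP
    exact im_of_chk r3_heptads (Or.inl (by decide)) hp'.out (by decide +kernel)
  let _ := actSub XH hXH
  refine im_of_chk r3_hexads (Or.inr ?_) hp'.out ?_
  · rw [card_M22]
    decide
  · simp only [List.mem_cons, List.not_mem_nil, or_false] at hm
    rcases hm with rfl | rfl | rfl | rfl | rfl | rfl | rfl | rfl | rfl | rfl | rfl | rfl <;>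
      first | (exact absurd rfl h2) | decide +kernel

end Cfsg.Agent.H852.IMMathieu
end
end
end
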