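import Cfsg.Agent.H852.IMRankThree
import Cfsg.Agent.OrdDiv.Table
import Cfsg.Agent.S1680
import Cfsg.Agent.S1624
import Cfsg.Agent.Prune
set_option linter.all false
prune_inst 0x7f00000000000000000000000000000000000000000000000000000000000000000000000000000000000000000000000000000000000000000000000000000000000000000000000000000000000000003fffffffffffffffffffffffffffbeffbdffffffff
open scoped Cfsg.Agent.FastGrp

/-!
# Itô-Michler for `Suz`, and for `J2`, `p ≠ 5` (helper852)
-/

set_option autoImplicit false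
open Cfsg

namespace Cfsg.Agent.H852.IMSuz

open Cfsg.Agent.H33 Cfsg.Agent.H852.IMRankThree Cfsg.Agent.OrdDiv

/-- Prime divisors from a factorization. -/
theorem prime_cases {p n : ℕ} (hp : p.Prime) (l : List ℕ) (hl : ∀ q ∈ l, q.Prime) (h : p ∣ n) (hn : n ∣ l.prod) :
    p ∈ l := by
  have h1 : p ∣ l.prod := h.trans hn
  rw [Prime.dvd_prod_iff hp.prime] at h1
  obtain ⟨q, hq, hpq⟩ := h1
  rwa [(Nat.prime_dvd_prime_iff_eq hp (hl q hq)).1 hpq]

/-- Powers of primes. -/
theorem prime_cases' {p n : ℕ} (hp : p.Prime) (l : List ℕ) (hl : ∀ q ∈ l, q.Prime) (k : ℕ) (h : p ∣ n)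
    (hn : n ∣ l.prod ^ k) : p ∈ l :=
  prime_cases hp l hl (hp.dvd_of_dvd_pow (h.trans hn)) dvd_rfl

theorem im_suz {S : Type*} [Group S] (h : Spor.IsoSuz S) {p : ℕ} [hp' : Fact p.Prime] (hp : p ∣ Nat.card S) :
    IM p S := by
  have hc : Nat.card Spor.Suz = 448345497600 :=
    table_spor Spor.Suz (.suz, 448345497600) (by decide +kernel) ⟨MulEquiv.refl _⟩
  have : Finite Spor.Suz := Nat.finite_of_card_ne_zero (by rw [hc]; norm_num)
  obtain ⟨e⟩ := h
  rw [Nat.card_congr e.toEquiv, hc] at hp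
  have hm := prime_cases' hp'.out [2, 3, 5, 7, 11, 13] (by decide) 13 hp (by norm_num)
  refine IM.of_equiv e ?_
  obtain ⟨h1, h2⟩ := Cfsg.Agent.S1680.result
  refine im_of_index _ (k := 416) (l := 1365) h1 h2 (by norm_num) (by norm_num) (by norm_num)
    (Or.inl (by decide)) hp'.out ?_
  simp only [List.mem_cons, List.not_mem_nil, or_false] at hm
  rcases hm with rfl | rfl | rfl | rfl | rfl | rfl <;> decide +kernel

/-- `J2` for `p ≠ 5`. -/
theorem im_j2_of_ne {S : Type*} [Group S] (h : Spor.IsoJ2 S) {p : ℕ} [hp' : Fact p.Prime] (hp : p ∣ Nat.card S)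
    (h5 : p ≠ 5) : IM p S := by
  have hc : Nat.card Spor.J2 = 604800 :=
    table_spor Spor.J2 (.j2, 604800) (by decide +kernel) ⟨MulEquiv.refl _⟩
  have : Finite Spor.J2 := Nat.finite_of_card_ne_zero (by rw [hc]; norm_num)
  obtain ⟨e⟩ := h
  rw [Nat.card_congr e.toEquiv, hc] at hp
  have hm := prime_cases' hp'.out [2, 3, 5, 7] (by decide) 7 hp (by norm_num)
  refine IM.of_equiv e ?_
  obtain ⟨H, h1, -, h2⟩ := Cfsg.Agent.S1624.result
  refine im_of_index H (k := 36) (l := 63) h1 h2 (by norm_num) (by norm_num) (by norm_num)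
    (Or.inl (by decide)) hp'.out ?_
  simp only [List.mem_cons, List.not_mem_nil, or_false] at hm
  rcases hm with rfl | rfl | rfl | rfl <;> first | exact absurd rfl h5 | decide +kernel

end Cfsg.Agent.H852.IMSuz
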