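import Cfsg.Agent.H852.RealRank
import Cfsg.Agent.OddHalf.Table.OutRu
import Cfsg.Agent.H603.SporElim
import Cfsg.Agent.H852.IMSuz
import Cfsg.Agent.Prune
set_option linter.all false
prune_inst 0x7f00000000000000000000000000000000000000000000000000000000000000000000000000000000000000000000000000000000000000000000000000000000000000000000000000000000000000003fffffffffffffffffffffffffffbeffbdffffffff
open scoped Cfsg.Agent.FastGrp

/-!
# REALB0: the row `Ru` (helper852)
-/

set_option autoImplicit false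
set_option maxRecDepth 100000
set_option exponentiation.threshold 5000
open Cfsg

namespace Cfsg.Agent.H852.RealRu

open Cfsg.Agent.H702.RealB0 Cfsg.Agent.H852.RealRank Cfsg.Agent.SporadicB Cfsg.Agent.OddHalf.Table.OutRu

theorem pow_apply (u : List ℕ) (n : ℕ) (i : Fin 4060) :
    ((((RuOrder.H.subtype (W u)) ^ n : Equiv.Perm (Fin 4060)) i : Fin 4060) : ℕ) = ev (rep n u) i := by
  rw [← map_pow, ← W_rep, ← W_apply]
  rfl

theorem ru_of (p : ℕ) [Fact p.Prime] (u : List ℕ) (k : ℕ) (i : Fin 4060) (hfin : Finite RuOrder.H)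
    (h0 : eqw (u ++ u) [] = true) (h1 : Nat.beq (ev (rep (p * k) (4 :: u)) i.val) i.val = true)
    (h2 : Nat.beq (ev (rep k (4 :: u)) i.val) i.val = false) : HasReal p RuOrder.H := by
  have ht : W u * W u = 1 := by
    rw [← W_append, eqw_sound h0, W_nil]
  have hs : W [4] * W [4] = 1 := by rw [W_y, y_sq]
  have hu : W [4] * W u = W (4 :: u) := by rw [← W_append]; rfl
  refine hasReal_of_invol RuOrder.H.subtype hs ht (k := k) (i := i) ?_ ?_
  · rw [hu]
    apply Fin.ext
    rw [pow_apply]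
    exact Nat.eq_of_beq_eq_true h1
  · rw [hu]
    intro h
    have h3 := congrArg Fin.val h
    rw [pow_apply] at h3
    rw [h3, Nat.beq_refl] at h2
    exact Bool.noConfusion h2

theorem ru {p : ℕ} [hp' : Fact p.Prime] (hp2 : p ≠ 2) {X : Type} [Group X] (hd : p ∣ Nat.card X)
    (h : Spor.IsoRu X) : HasReal p X := by
  have hfin : Finite RuOrder.H := Nat.finite_of_card_ne_zero (by rw [RuOrder.card_H]; norm_num)
  rw [Cfsg.Agent.NotCT.Orders.ru h] at hd
  obtain ⟨e⟩ := h
  refine HasReal.congr (e.trans Cfsg.Agent.RuLat.Main.equiv).symm ?_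
  have hm := Cfsg.Agent.H852.IMSuz.prime_cases' hp'.out [2, 3, 5, 7, 13, 29] (by decide) 14 hd (by norm_num)
  simp only [List.mem_cons, List.not_mem_nil, or_false] at hm
  rcases hm with rfl | rfl | rfl | rfl | rfl | rfl
  · exact absurd rfl hp2
  · exact ru_of 3 [0, 4, 1] 5 ⟨0, by norm_num⟩ hfin (by decide +kernel) (by decide +kernel) (by decide +kernel)
  · exact ru_of 5 [0, 4, 1] 3 ⟨0, by norm_num⟩ hfin (by decide +kernel) (by decide +kernel) (by decide +kernel)
  · exact ru_of 7 [1, 4, 1, 2, 1, 4, 0, 3, 0, 4, 0] 1 ⟨0, by norm_num⟩ hfin (by decide +kernel) (by decide +kernel) (by decide +kernel)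
  · exact ru_of 13 [0, 4, 2, 0, 4, 1, 3, 4, 1] 1 ⟨0, by norm_num⟩ hfin (by decide +kernel) (by decide +kernel) (by decide +kernel)
  · exact ru_of 29 [1, 1, 4, 0, 0] 1 ⟨0, by norm_num⟩ hfin (by decide +kernel) (by decide +kernel) (by decide +kernel)

end Cfsg.Agent.H852.RealRu
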