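import Mathlib
import Cfsg.Prelude.Def_Transfer
import Cfsg.Agent.Transfer.NormalPComplement
import Cfsg.Agent.S0205
import Cfsg.Agent.S0813
import Cfsg.Agent.S0265
import Cfsg.Agent.S0679
import Cfsg.Agent.SmallSimple.PSLTwoPart
import Cfsg.Agent.ClassicalGeometry.PSL2Basic
import Cfsg.Agent.Lib.MinNormalNonabelian
import Cfsg.Agent.Lib.Cores
import Cfsg.Prelude.Def_CaseTheorems
import Cfsg.Agent.FastGrp
import Cfsg.Agent.Prune
set_option linter.all false

section
prune_inst 0x7f00000000000000000000000000000000000000000000000000000000000000000000000000000000000000000000000000000000000000000000000000000000000000000000000000000000000000003fffffffffffffffffffffffffffaeffbdffffffff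

-- part: H584/NC/Basic
section
prune_inst 0x10000000000000
set_option linter.all false
open scoped Cfsg.Agent.FastGrp

/-!
# Almost simple groups whose proper supplements of the socle are 2-nilpotent (S4386)

* `NC X` : `X` has a normal 2-complement;
* `AS S` : `S` is a simple normal subgroup of `A`, `C_A(S) = 1` and every proper supplement of `S` in `A` is 2-nilpotent;
* `Loc S` : the consequences for the simple group `S` alone; `Loc.exists_z` : a central involution `z` of a Sylow
  2-subgroup with `C(z)` 2-nilpotent;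
* `IsL2 S` : the conclusion.
* `PI S M r` : `S` is simple and normal in `G`, `C(S) = 1`, `M` is a maximal subgroup of prime index `r` which is not
  2-nilpotent, `S M = G`, and every maximal subgroup `K` with `S K = G` is 2-nilpotent or of prime index.
-/

set_option autoImplicit false

namespace Cfsg.Agent.H584.NC

open Subgroup

universe u v

/-- `X` has a normal 2-complement. -/
abbrev NC (X : Type u) [Group X] : Prop := Cfsg.HasNormalPComplement 2 X

/-- The hypotheses on an almost simple group. -/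
structure AS {A : Type u} [Group A] (S : Subgroup A) : Prop where
  normal : S.Normal
  simple : IsSimpleGroup S
  nonsol : ¬ Group.IsSolvable S
  cent : centralizer (S : Set A) = ⊥
  npc : ∀ H : Subgroup A, H ≠ ⊤ → S ⊔ H = ⊤ → NC H

/-- The local condition for a Sylow 2-subgroup `Q` of the simple group `S` and a 2-group `T` of automorphisms. -/
structure LocAt {S : Type u} [Group S] (Q : Sylow 2 S) (T : Subgroup (MulAut S)) : Prop where
  two : IsPGroup 2 T
  inner : ∀ x ∈ Q, MulAut.conj x ∈ T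
  inv : ∀ τ ∈ T, (Q : Subgroup S).map τ.toMonoidHom = Q
  npc : ∀ Y : Subgroup S, Y ≤ Q → Y ≠ ⊥ → (∀ τ ∈ T, Y.map τ.toMonoidHom = Y) → NC (normalizer (Y : Set S))

/-- The consequences of `AS S` for the simple group `S`. -/
structure Loc (S : Type u) [Group S] : Prop where
  simple : IsSimpleGroup S
  nonsol : ¬ Group.IsSolvable S
  loc : ∃ (Q : Sylow 2 S) (T : Subgroup (MulAut S)), LocAt Q T
  star : ∀ H : Subgroup S, H ≠ ⊤ →
    (∀ α : MulAut S, ∃ s : S, H.map α.toMonoidHom = H.map (MulAut.conj s).toMonoidHom) → NC H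

/-- the fields of the conclusion -/
def QOK (F : Type) [Fintype F] : Prop :=
  (∃ (r a : ℕ), r.Prime ∧ r ≠ 2 ∧ 1 ≤ a ∧ Fintype.card F = r ^ (2 ^ a)) ∨
    ((Fintype.card F).Prime ∧ (Fintype.card F % 8 = 1 ∨ Fintype.card F % 8 = 7))

/-- the conclusion on the simple group -/
def IsL2 (S : Type u) [Group S] : Prop :=
  ∃ (F : Type) (_ : Field F) (_ : Fintype F), QOK F ∧ Nonempty (S ≃* Matrix.ProjectiveSpecialLinearGroup (Fin 2) F)

/-- The hypotheses with a maximal subgroup of prime index. -/
structure PI {G : Type u} [Group G] (S M : Subgroup G) (r : ℕ) : Prop where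
  normal : S.Normal
  simple : IsSimpleGroup S
  nonsol : ¬ Group.IsSolvable S
  cent : centralizer (S : Set G) = ⊥
  prime : r.Prime
  coatom : IsCoatom M
  sup : S ⊔ M = ⊤
  index : M.index = r
  notnc : ¬ NC M
  max : ∀ K : Subgroup G, IsCoatom K → S ⊔ K = ⊤ → NC K ∨ K.index.Prime

/-- The conclusion with a maximal subgroup of prime index. -/
def PIConcl {G : Type u} [Group G] (S : Subgroup G) : Prop :=
  Nonempty (G ≃* alternatingGroup (Fin 5)) ∨
    (∃ (F : Type) (_ : Field F) (_ : Fintype F), (Fintype.card F = 7 ∨ Fintype.card F = 11) ∧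
        Nonempty (G ≃* Matrix.ProjectiveSpecialLinearGroup (Fin 2) F)) ∨
    (S.index = 2 ∧ Nonempty (S ≃* alternatingGroup (Fin 5)))

/-! ### 2-nilpotent groups -/

instance factTwo : Fact (Nat.Prime 2) := ⟨Nat.prime_two⟩

theorem NC.of_injective {G : Type u} {H : Type v} [Group G] [Group H] [Finite G] (f : H →* G)
    (hf : Function.Injective f) (h : NC G) : NC H :=
  Transfer.NormalPComplement.of_injective f hf h

theorem NC.of_surjective {G : Type u} {H : Type v} [Group G] [Group H] [Finite G] (f : G →* H)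
    (hf : Function.Surjective f) (h : NC G) : NC H :=
  Transfer.NormalPComplement.of_surjective f hf h

theorem NC.to_le {G : Type u} [Group G] [Finite G] {H K : Subgroup G} (h : NC K) (hHK : H ≤ K) : NC H :=
  NC.of_injective (Subgroup.inclusion hHK) (Subgroup.inclusion_injective hHK) h

theorem NC.subgroup {G : Type u} [Group G] [Finite G] (h : NC G) (H : Subgroup G) : NC H :=
  NC.of_injective H.subtype (Subgroup.subtype_injective _) h

theorem NC.congr {G : Type u} {H : Type v} [Group G] [Group H] [Finite G] (e : G ≃* H) : NC G ↔ NC H :=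
  Transfer.NormalPComplement.congr e

/-- a 2-nilpotent group in terms of a normal subgroup of odd order with quotient a 2-group -/
theorem NC_iff {G : Type u} [Group G] [Finite G] :
    NC G ↔ ∃ N : Subgroup G, ∃ _ : N.Normal, (Nat.card N).Coprime 2 ∧ IsPGroup 2 (G ⧸ N) :=
  Transfer.NormalPComplement.hasNormalPComplement_iff

theorem NC_of_isPGroup {G : Type u} [Group G] [Finite G] (h : IsPGroup 2 G) : NC G :=
  NC_iff.2 ⟨⊥, inferInstance, by simp, h.of_surjective (QuotientGroup.mk' _) (QuotientGroup.mk'_surjective _)⟩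

theorem NC_of_odd {G : Type u} [Group G] [Finite G] (h : ¬ 2 ∣ Nat.card G) : NC G :=
  NC_iff.2 ⟨⊤, inferInstance, by
    rw [Subgroup.card_top]
    exact ((Nat.Prime.coprime_iff_not_dvd Nat.prime_two).2 h).symm, fun x => ⟨0, by
      rw [pow_zero, pow_one]
      have := QuotientGroup.subsingleton_quotient_top (G := G)
      exact Subsingleton.elim _ _⟩⟩

/-- 2-nilpotent groups are solvable. -/
theorem NC.solvable {G : Type u} [Group G] [Finite G] (h : NC G) : Group.IsSolvable G := by
  obtain ⟨N, hN, hc, hp⟩ := NC_iff.1 h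
  have h1 : Group.IsSolvable N := by
    refine S0205.result ?_
    rw [← Nat.not_even_iff_odd, even_iff_two_dvd]
    exact (Nat.Prime.coprime_iff_not_dvd Nat.prime_two).1 hc.symm
  have h2 : Group.IsSolvable (G ⧸ N) := by
    have := hp.isNilpotent
    infer_instance
  have h3 : Group.IsSolvable (QuotientGroup.mk' N).range :=
    solvable_of_solvable_injective (Subgroup.subtype_injective _)
  exact solvable_of_ker_le_range N.subtype (QuotientGroup.mk' N) (by rw [QuotientGroup.ker_mk', Subgroup.range_subtype])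

/-- In a 2-nilpotent group the elements of odd order form a subgroup. -/
theorem NC.closed {G : Type u} [Group G] [Finite G] (h : NC G) {x y : G} (hx : ¬ 2 ∣ orderOf x) (hy : ¬ 2 ∣ orderOf y) :
    ¬ 2 ∣ orderOf (x * y) := by
  obtain ⟨N, hN, hc, hp⟩ := NC_iff.1 h
  have key : ∀ z : G, z ∈ N ↔ ¬ 2 ∣ orderOf z := by
    intro z
    rw [Transfer.NormalPComplement.mem_iff_coprime_orderOf' N hc hp, Nat.coprime_comm,
      Nat.Prime.coprime_iff_not_dvd Nat.prime_two]
  rw [← key] at hx hy ⊢
  exact N.mul_mem hx hy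

/-- In a 2-nilpotent group an element of odd order normalizing a 2-subgroup centralizes it. -/
theorem NC.comm {G : Type u} [Group G] [Finite G] (h : NC G) {Y : Subgroup G} (hY : IsPGroup 2 Y) {x : G}
    (hx : ¬ 2 ∣ orderOf x) (hxY : ∀ y ∈ Y, x * y * x⁻¹ ∈ Y) {y : G} (hy : y ∈ Y) : x * y = y * x := by
  have h1 : x * y * x⁻¹ * y⁻¹ ∈ Y := Y.mul_mem (hxY y hy) (Y.inv_mem hy)
  obtain ⟨k, hk⟩ := hY ⟨_, h1⟩
  have h2 : (x * y * x⁻¹ * y⁻¹) ^ 2 ^ k = 1 := congrArg Subtype.val hk
  have h3 : ¬ 2 ∣ orderOf (x * y * x⁻¹ * y⁻¹) := by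
    have h4 : x * y * x⁻¹ * y⁻¹ = x * (y * x⁻¹ * y⁻¹) := by group
    rw [h4]
    refine h.closed hx ?_
    have h5 : orderOf (y * x⁻¹ * y⁻¹) = orderOf x := by
      have : y * x⁻¹ * y⁻¹ = MulAut.conj y x⁻¹ := rfl
      rw [this, (MulAut.conj y).orderOf_eq, orderOf_inv]
    rwa [h5]
  have h6 : x * y * x⁻¹ * y⁻¹ = 1 := by
    rw [← orderOf_eq_one_iff]
    have h7 := orderOf_dvd_of_pow_eq_one h2
    obtain ⟨j, -, hj⟩ := (Nat.dvd_prime_pow Nat.prime_two).1 h7
    rw [hj]
    rcases j with _ | j
    · rfl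
    · exact absurd (hj ▸ dvd_pow_self 2 (Nat.succ_ne_zero j)) h3
  calc x * y = (x * y * x⁻¹ * y⁻¹) * (y * x) := by group
    _ = y * x := by rw [h6, one_mul]

/-- The same inside a subgroup `K` of a group. -/
theorem NC.comm' {G : Type u} [Group G] [Finite G] {K : Subgroup G} (h : NC K) {Y : Subgroup G} (hYK : Y ≤ K)
    (hY : IsPGroup 2 Y) {x : G} (hxK : x ∈ K)
    (hx : ¬ 2 ∣ orderOf x) (hxY : ∀ y ∈ Y, x * y * x⁻¹ ∈ Y) {y : G} (hy : y ∈ Y) : x * y = y * x := by
  have h1 : IsPGroup 2 (Y.subgroupOf K) := hY.comap_of_injective K.subtype (Subgroup.subtype_injective _)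
  have h2 : ¬ 2 ∣ orderOf (⟨x, hxK⟩ : K) := by rwa [Subgroup.orderOf_mk]
  have h3 := h.comm h1 h2 (fun y hy => by
    rw [mem_subgroupOf] at hy ⊢
    exact hxY _ hy) (y := ⟨y, hYK hy⟩) (by rw [mem_subgroupOf]; exact hy)
  exact congrArg Subtype.val h3

/-- A group of odd order is solvable, so a non-solvable group has even order. -/
theorem two_dvd_of_nonsol {G : Type u} [Group G] [Finite G] (h : ¬ Group.IsSolvable G) : 2 ∣ Nat.card G := by
  by_contra hcon
  exact h (NC_of_odd hcon).solvable

theorem not_nc_of_nonsol {G : Type u} [Group G] [Finite G] (h : ¬ Group.IsSolvable G) : ¬ NC G :=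
  fun h1 => h h1.solvable

/-! ### the centralizer of an involution -/

section Z

variable {S : Type u} [Group S] [Finite S]

theorem normalizer_zpowers_of_two {z : S} (hz : orderOf z = 2) :
    normalizer (zpowers z : Set S) = centralizer ({z} : Set S) := by
  ext g
  rw [mem_normalizer_iff, mem_centralizer_singleton_iff]
  have hel : ∀ x, x ∈ zpowers z → x = 1 ∨ x = z := by
    intro x hx
    obtain ⟨k, rfl⟩ := mem_zpowers_iff.1 hx
    rw [← zpow_mod_orderOf, hz]
    rcases Int.emod_two_eq_zero_or_one k with h | h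
    · left
      change z ^ (k % 2) = 1
      rw [h, zpow_zero]
    · right
      change z ^ (k % 2) = z
      rw [h, zpow_one]
  constructor
  · intro h
    rcases hel _ ((h z).1 (mem_zpowers z)) with h1 | h1
    · exfalso
      have h2 : z = 1 := by
        have : g * z = g := by rw [mul_inv_eq_one] at h1; exact h1
        exact mul_eq_left.1 this
      rw [h2, orderOf_one] at hz
      omega
    · rw [mul_inv_eq_iff_eq_mul] at h1
      exact h1
  · intro h x
    have h1 : g * z * g⁻¹ = z := by rw [h]; group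
    constructor
    · intro hx
      rcases hel x hx with rfl | rfl
      · simp
      · rw [h1]; exact mem_zpowers _
    · intro hx
      have h2 : x = g⁻¹ * (g * x * g⁻¹) * g := by group
      rcases hel _ hx with h3 | h3
      · rw [h3] at h2
        rw [h2]
        simp
      · rw [h3] at h2
        rw [h2, mul_assoc, ← h, ← mul_assoc, inv_mul_cancel, one_mul]
        exact mem_zpowers _

theorem LocAt.exists_z {Q : Sylow 2 S} {T : Subgroup (MulAut S)} (h : LocAt Q T) (h2 : 2 ∣ Nat.card S) :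
    ∃ z : S, orderOf z = 2 ∧ z ∈ Q ∧ (∀ x ∈ Q, z * x = x * z) ∧ (∀ τ ∈ T, τ z = z) ∧
      NC (centralizer ({z} : Set S)) := by
  have hQ1 : Nat.card Q ≠ 1 := by
    intro h1
    have h3 : 2 ∣ Nat.card (Q : Subgroup S) := Q.dvd_card_of_dvd_card h2
    rw [h1] at h3
    omega
  -- the fixed points of `T` in `Q`
  let act : MulAction T (Q : Subgroup S) :=
    { smul := fun τ x => ⟨(τ : MulAut S) x, by
        have h1 : (τ : MulAut S) x ∈ (Q : Subgroup S).map (τ : MulAut S).toMonoidHom := mem_map_of_mem _ x.2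
        rwa [h.inv τ τ.2] at h1⟩
      one_smul := fun x => Subtype.ext rfl
      mul_smul := fun a b x => Subtype.ext rfl }
  have hfix1 : (1 : (Q : Subgroup S)) ∈ MulAction.fixedPoints T (Q : Subgroup S) := by
    intro τ
    exact Subtype.ext (map_one (τ : MulAut S))
  have hfin : Finite (MulAction.fixedPoints T (Q : Subgroup S)) := inferInstance
  have hcard := h.two.card_modEq_card_fixedPoints (Q : Subgroup S)
  have hdvd : 2 ∣ Nat.card (Q : Subgroup S) := Q.dvd_card_of_dvd_card h2
  have h3 : 2 ∣ Nat.card (MulAction.fixedPoints T (Q : Subgroup S)) :=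
    (Nat.modEq_zero_iff_dvd).1 (hcard.symm.trans ((Nat.modEq_zero_iff_dvd).2 hdvd))
  -- the fixed points form a subgroup
  let C : Subgroup S :=
    { carrier := {x | x ∈ Q ∧ ∀ τ ∈ T, (τ : MulAut S) x = x}
      one_mem' := ⟨one_mem _, fun τ _ => map_one τ⟩
      mul_mem' := fun {a b} ha hb => ⟨mul_mem ha.1 hb.1, fun τ hτ => by rw [map_mul, ha.2 τ hτ, hb.2 τ hτ]⟩
      inv_mem' := fun {a} ha => ⟨inv_mem ha.1, fun τ hτ => by rw [map_inv, ha.2 τ hτ]⟩ }
  have hC : Nat.card C = Nat.card (MulAction.fixedPoints T (Q : Subgroup S)) := by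
    refine Nat.card_congr
      { toFun := fun x => ⟨⟨x.1, x.2.1⟩, fun τ => Subtype.ext (x.2.2 τ τ.2)⟩
        invFun := fun x => ⟨x.1.1, x.1.2, fun τ hτ => congrArg Subtype.val (x.2 ⟨τ, hτ⟩)⟩
        left_inv := fun x => rfl
        right_inv := fun x => rfl }
  rw [← hC] at h3
  obtain ⟨⟨z, hz⟩, hz2⟩ := exists_prime_orderOf_dvd_card' 2 h3
  have hz2' : orderOf z = 2 := by rwa [Subgroup.orderOf_mk] at hz2
  refine ⟨z, hz2', hz.1, ?_, hz.2, ?_⟩
  · intro x hx
    have h4 := hz.2 _ (h.inner x hx)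
    rw [MulAut.conj_apply, mul_inv_eq_iff_eq_mul] at h4
    exact h4.symm
  · rw [← normalizer_zpowers_of_two hz2']
    refine h.npc _ ?_ ?_ ?_
    · rw [zpowers_le]; exact hz.1
    · rw [Ne, zpowers_eq_bot]
      rintro rfl
      rw [orderOf_one] at hz2'
      omega
    · intro τ hτ
      rw [MonoidHom.map_zpowers]
      congr 1
      exact hz.2 τ hτ

/-- **The central involution.** -/
theorem Loc.exists_z (h : Loc S) : ∃ (z : S) (Q : Sylow 2 S), orderOf z = 2 ∧ z ∈ Q ∧ (∀ x ∈ Q, z * x = x * z) ∧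
    NC (centralizer ({z} : Set S)) := by
  obtain ⟨Q, T, hT⟩ := h.loc
  obtain ⟨z, h1, h2, h3, -, h4⟩ := hT.exists_z (two_dvd_of_nonsol h.nonsol)
  exact ⟨z, Q, h1, h2, h3, h4⟩

theorem Loc.not_comm (h : Loc S) : ¬ IsMulCommutative S := by
  intro h1
  apply h.nonsol
  let _ : CommGroup S := { ‹Group S› with mul_comm := h1.1.1 }
  infer_instance

/-- The normalizer of a Sylow 2-subgroup is 2-nilpotent. -/
theorem Loc.normalizer_sylow (h : Loc S) (Q : Sylow 2 S) : NC (normalizer (Q : Set S)) := by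
  obtain ⟨Q', T, hT⟩ := h.loc
  have hQ1 : (Q' : Subgroup S) ≠ ⊥ := by
    intro h1
    have h2 : 2 ∣ Nat.card (Q' : Subgroup S) := Q'.dvd_card_of_dvd_card (two_dvd_of_nonsol h.nonsol)
    rw [h1, Subgroup.card_bot] at h2
    omega
  have h1 := hT.npc Q' le_rfl hQ1 hT.inv
  obtain ⟨g, hg⟩ := MulAction.exists_smul_eq S Q' Q
  have h2 : normalizer ((Q : Subgroup S) : Set S) = (normalizer ((Q' : Subgroup S) : Set S)).map (MulAut.conj g).toMonoidHom := by
    rw [← hg, Sylow.coe_subgroup_smul, Subgroup.pointwise_smul_def]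
    exact (Subgroup.map_equiv_normalizer_eq _ (MulAut.conj g)).symm
  change NC (normalizer ((Q : Subgroup S) : Set S))
  rw [h2]
  exact (NC.congr ((normalizer ((Q' : Subgroup S) : Set S)).equivMapOfInjective _ (MulAut.conj g).injective)).1 h1

end Z

end Cfsg.Agent.H584.NC
end

-- part: H584/NC/PIBasic
section
set_option linter.all false
open scoped Cfsg.Agent.FastGrp

/-!
# Almost simple groups with a maximal subgroup of prime index which is not 2-nilpotent (S4386)

`PI S M r` : see `Basic`. Consequences: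

* `PI.exists_over` : a proper supplement `H` of `S` which is not 2-nilpotent lies in a maximal subgroup `K` of index `r`,
  and `r` does not divide `|K|`; in particular `K` is not transitive on `G ⧸ M`.
* `Lin` : the data of the linear case, `FixSub`, `ColInv` : two facts proved elsewhere.
-/

set_option autoImplicit false

namespace Cfsg.Agent.H584.NC

open Subgroup
open scoped LinearAlgebra.Projectivization

universe u v

/-- A normal subgroup `S` with `S ⊔ K = ⊤` is transitive on `G ⧸ K`. -/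
theorem transitive_of_sup {G : Type u} [Group G] {S K : Subgroup G} (hS : S.Normal) (hsup : S ⊔ K = ⊤) :
    MulAction.IsPretransitive S (G ⧸ K) := by
  constructor
  have key : ∀ y : G ⧸ K, ∃ s : S, s • (QuotientGroup.mk (1 : G) : G ⧸ K) = y := by
    intro y
    induction y using QuotientGroup.induction_on with
    | H g =>
      have hg : g ∈ S ⊔ K := hsup ▸ mem_top g
      rw [mem_sup_of_normal_left] at hg
      obtain ⟨s, hs, m, hm, rfl⟩ := hg
      refine ⟨⟨s, hs⟩, ?_⟩
      change (QuotientGroup.mk (s * 1) : G ⧸ K) = QuotientGroup.mk (s * m)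
      rw [QuotientGroup.eq, mul_one, inv_mul_cancel_left]
      exact hm
  intro x y
  obtain ⟨s, rfl⟩ := key x
  obtain ⟨t, rfl⟩ := key y
  exact ⟨t * s⁻¹, by rw [mul_smul, inv_smul_smul]⟩

theorem relIndex_of_sup {G : Type u} [Group G] {S K : Subgroup G} (hS : S.Normal) (hsup : S ⊔ K = ⊤) :
    K.relIndex S = K.index := by
  have := transitive_of_sup hS hsup
  have h1 := MulAction.index_stabilizer_of_transitive S (QuotientGroup.mk (1 : G) : G ⧸ K)
  have h2 : MulAction.stabilizer S (QuotientGroup.mk (1 : G) : G ⧸ K) = K.subgroupOf S := by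
    ext s
    rw [MulAction.mem_stabilizer_iff, mem_subgroupOf]
    change (QuotientGroup.mk ((s : G) * 1) : G ⧸ K) = QuotientGroup.mk 1 ↔ _
    rw [QuotientGroup.eq, mul_one, mul_one, inv_mem_iff]
  rw [h2] at h1
  exact h1

namespace PI

variable {G : Type u} [Group G] [Finite G] {S M : Subgroup G} {r : ℕ}

/-- maximal supplements have trivial core -/
theorem core (h : PI S M r) {K : Subgroup G} (hK : K ≠ ⊤) (hsup : S ⊔ K = ⊤) : K.normalCore = ⊥ := by
  have := h.simple
  have := h.normal
  have h1 : (K.normalCore.subgroupOf S).Normal := (inferInstance : K.normalCore.Normal).subgroupOf S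
  rcases h1.eq_bot_or_eq_top with h2 | h2
  · rw [subgroupOf_eq_bot, disjoint_iff] at h2
    rw [eq_bot_iff]
    have h3 : K.normalCore ≤ centralizer (S : Set G) := by
      have h4 := commutator_le_inf K.normalCore S
      rw [h2, le_bot_iff, commutator_eq_bot_iff_le_centralizer] at h4
      exact h4
    rw [h.cent] at h3
    exact h3
  · exfalso
    apply hK
    rw [subgroupOf_eq_top] at h2
    rw [← hsup]
    exact (sup_eq_right.2 (h2.trans K.normalCore_le)).symm

theorem faithful (h : PI S M r) {K : Subgroup G} (hK : K ≠ ⊤) (hsup : S ⊔ K = ⊤) : FaithfulSMul G (G ⧸ K) := by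
  constructor
  intro a b hab
  have h1 : a⁻¹ * b ∈ K.normalCore := by
    intro g
    have h2 := hab (QuotientGroup.mk g⁻¹ : G ⧸ K)
    have h3 : (QuotientGroup.mk (a * g⁻¹) : G ⧸ K) = QuotientGroup.mk (b * g⁻¹) := h2
    rw [QuotientGroup.eq] at h3
    have h4 : g * (a⁻¹ * b) * g⁻¹ = (a * g⁻¹)⁻¹ * (b * g⁻¹) := by group
    rw [h4]
    exact h3
  rw [h.core hK hsup, mem_bot, inv_mul_eq_one] at h1
  exact h1

theorem card_dvd (h : PI S M r) {K : Subgroup G} (hK : K ≠ ⊤) (hsup : S ⊔ K = ⊤) :
    Nat.card G ∣ (K.index).factorial := by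
  have hf := h.faithful hK hsup
  have h1 : Function.Injective (MulAction.toPermHom G (G ⧸ K)) := MulAction.toPerm_injective
  have h2 := Subgroup.card_dvd_of_injective _ h1
  rwa [Nat.card_perm] at h2

theorem prime_le (h : PI S M r) {K : Subgroup G} (hK : K ≠ ⊤) (hsup : S ⊔ K = ⊤) {q : ℕ} (hq : q.Prime)
    (hqG : q ∣ Nat.card G) : q ≤ K.index :=
  (hq.dvd_factorial).1 (hqG.trans (h.card_dvd hK hsup))

theorem M_ne_top (h : PI S M r) : M ≠ ⊤ := h.coatom.1

/-- the prime index is `r` -/
theorem index_eq (h : PI S M r) {K : Subgroup G} (hsup : S ⊔ K = ⊤) (hp : K.index.Prime) :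
    K.index = r := by
  have hK : K ≠ ⊤ := by
    rintro rfl
    rw [index_top] at hp
    exact Nat.not_prime_one hp
  apply le_antisymm
  · have := h.prime_le h.M_ne_top h.sup hp (index_dvd_card K)
    rwa [h.index] at this
  · have h1 : r ∣ Nat.card G := h.index ▸ index_dvd_card M
    exact h.prime_le hK hsup h.prime h1

theorem not_sq_dvd (h : PI S M r) : ¬ r ^ 2 ∣ Nat.card G := by
  intro h1
  have h2 := h1.trans (h.card_dvd h.M_ne_top h.sup)
  rw [h.index] at h2
  obtain ⟨k, rfl⟩ : ∃ k, r = k + 1 := ⟨r - 1, by have := h.prime.pos; omega⟩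
  rw [Nat.factorial_succ, pow_two] at h2
  have h3 : (k + 1) ∣ k.factorial := Nat.dvd_of_mul_dvd_mul_left (Nat.succ_pos k) h2
  have := (h.prime.dvd_factorial).1 h3
  omega

theorem not_dvd (h : PI S M r) {K : Subgroup G} (hK : K.index = r) : ¬ r ∣ Nat.card K := by
  intro h1
  apply h.not_sq_dvd
  rw [← K.card_mul_index, hK, pow_two]
  exact Nat.mul_dvd_mul_right h1 r

theorem relIndex (h : PI S M r) {K : Subgroup G} (hsup : S ⊔ K = ⊤) : K.relIndex S = K.index :=
  relIndex_of_sup h.normal hsup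

/-- the index in `S` of a maximal supplement of index `r` -/
theorem index_subgroupOf (h : PI S M r) {K : Subgroup G} (hsup : S ⊔ K = ⊤) (hK : K.index = r) :
    (K.subgroupOf S).index = r := by
  rw [← hK, ← h.relIndex hsup]
  rfl

/-- **The way to use the hypotheses.** -/
theorem exists_over (h : PI S M r) {H : Subgroup G} (hnc : ¬ NC H) (hsup : S ⊔ H = ⊤) (hne : H ≠ ⊤) :
    ∃ K : Subgroup G, IsCoatom K ∧ H ≤ K ∧ S ⊔ K = ⊤ ∧ K.index = r ∧ ¬ r ∣ Nat.card K := by
  obtain ⟨K, hK, hHK⟩ := (eq_top_or_exists_le_coatom H).resolve_left hne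
  have h1 : S ⊔ K = ⊤ := top_le_iff.1 (hsup ▸ sup_le_sup_left hHK S)
  rcases h.max K hK h1 with h2 | h2
  · exact absurd (h2.to_le hHK) hnc
  · have h3 := h.index_eq h1 h2
    exact ⟨K, hK, hHK, h1, h3, h.not_dvd h3⟩

/-- a subgroup of order prime to `r` is not transitive on `G ⧸ M` -/
theorem not_transitive (h : PI S M r) {K : Subgroup G} (hK : ¬ r ∣ Nat.card K) :
    ¬ MulAction.IsPretransitive K (G ⧸ M) := by
  intro h1
  apply hK
  have h2 := MulAction.index_stabilizer_of_transitive K (QuotientGroup.mk (1 : G) : G ⧸ M)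
  rw [← h.index]
  change Nat.card (G ⧸ M) ∣ _
  rw [← h2]
  exact Subgroup.index_dvd_card _

theorem card_points (h : PI S M r) : Nat.card (G ⧸ M) = r := h.index

/-- `S` is transitive. -/
theorem transitive_S (h : PI S M r) : MulAction.IsPretransitive S (G ⧸ M) :=
  transitive_of_sup h.normal h.sup

/-- Frattini: a supplement from an invariant `S`-orbit: if every `g • x` is `s • x`. -/
theorem sup_of_orbit {X : Type v} [MulAction G X] {x : X} (hx : ∀ g : G, ∃ s ∈ S, g • x = s • x) :
    S ⊔ MulAction.stabilizer G x = ⊤ := by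
  rw [eq_top_iff]
  intro g _
  obtain ⟨s, hs, h1⟩ := hx g
  have h2 : s⁻¹ * g ∈ MulAction.stabilizer G x := by
    rw [MulAction.mem_stabilizer_iff, mul_smul, h1, inv_smul_smul]
  have h3 : g = s * (s⁻¹ * g) := by group
  rw [h3]
  exact mul_mem_sup hs h2

end PI

/-! ### the linear case -/

/-- The data of the linear case: `S ≃* PSL d F` acts on `G ⧸ M` as on the points of the projective space. -/
structure Lin {G : Type u} [Group G] (S M : Subgroup G) (r : ℕ) (F : Type) [Field F] [Fintype F] (d : ℕ)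
    (e : S ≃* Matrix.ProjectiveSpecialLinearGroup (Fin d) F) (Φ : (G ⧸ M) ≃ ℙ F (Fin d → F)) : Prop where
  pi : PI S M r
  equiv : ∀ (t : S) (ω : G ⧸ M), Φ (t • ω) = e t • Φ ω
  two_le : 2 ≤ d
  card : Fintype.card F ^ d - 1 = r * (Fintype.card F - 1)

/-- A subgroup of index `r` fixes a proper non-zero subspace. -/
def FixSub {G : Type u} [Group G] (S M : Subgroup G) (r : ℕ) (F : Type) [Field F] (d : ℕ)
    (Φ : (G ⧸ M) ≃ ℙ F (Fin d → F)) : Prop :=
  ∀ K : Subgroup G, K.index = r → S ⊔ K = ⊤ → ∃ W : Submodule F (Fin d → F), W ≠ ⊥ ∧ W ≠ ⊤ ∧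
    ∀ s : S, (s : G) ∈ K → ∀ ω : G ⧸ M, (Φ ω).submodule ≤ W → (Φ (s • ω)).submodule ≤ W

/-- `G` preserves the lines. -/
def ColInv {G : Type u} [Group G] (M : Subgroup G) (F : Type) [Field F] (d : ℕ)
    (Φ : (G ⧸ M) ≃ ℙ F (Fin d → F)) : Prop :=
  ∀ (g : G) (a b c : G ⧸ M), (Φ c).submodule ≤ (Φ a).submodule ⊔ (Φ b).submodule →
    (Φ (g • c)).submodule ≤ (Φ (g • a)).submodule ⊔ (Φ (g • b)).submodule

end Cfsg.Agent.H584.NC
end

-- part: H852/NCPsl11
section
prune_inst 0x10000000000000
set_option linter.all false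
open scoped Cfsg.Agent.FastGrp

/-!
# The case `PSL₂(11)`, degree 11, of S4386 (helper852)
-/

set_option autoImplicit false

namespace Cfsg.Agent.H852.NCPsl11

open Cfsg Subgroup Cfsg.Agent.H584.NC MulAction

universe u

instance : Fact (Nat.Prime 11) := ⟨by norm_num⟩

theorem card_psl : Nat.card (Matrix.ProjectiveSpecialLinearGroup (Fin 2) (ZMod 11)) = 660 := by
  have h := Cfsg.Agent.SmallSimple.PSLTwoPart.card_psl_two_odd (F := ZMod 11) (by rw [ZMod.card]; decide)
  rw [ZMod.card] at h
  omega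

theorem card_aut : Nat.card (MulAut (Matrix.ProjectiveSpecialLinearGroup (Fin 2) (ZMod 11))) = 1320 := by
  rw [Cfsg.Agent.S0813.result 11 1 le_rfl (by rw [ZMod.card, pow_one]) 2 le_rfl (fun _ => by norm_num),
    Cfsg.Agent.S0265.result, Cfsg.Agent.ClassicalGeometry.PSL2Basic.card_SL2, ZMod.card]
  norm_num

variable {G : Type u} [Group G] [Finite G] {S M : Subgroup G}

/-- **task 486.** -/
theorem psl11 (h : PI S M 11) (e : S ≃* Matrix.ProjectiveSpecialLinearGroup (Fin 2) (ZMod 11)) : S = ⊤ := by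
  have hn := h.normal
  -- `|G| ≤ 1320`
  have hle : Nat.card G ≤ 1320 := by
    have h1 : Function.Injective (MulAut.conjNormal : G →* MulAut S) := by
      rw [injective_iff_map_eq_one]
      intro g hg
      have h2 : g ∈ centralizer (S : Set G) := by
        rw [mem_centralizer_iff]
        intro t ht
        have h3 : ((MulAut.conjNormal g (⟨t, ht⟩ : S) : S) : G) = t := by rw [hg]; rfl
        rw [MulAut.conjNormal_apply] at h3
        have h4 : g * t * g⁻¹ = t := h3
        rw [mul_inv_eq_iff_eq_mul] at h4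
        exact h4.symm
      rw [h.cent, mem_bot] at h2
      exact h2
    have : Finite (MulAut S) := inferInstance
    have h2 := Nat.card_le_card_of_injective _ h1
    rwa [Nat.card_congr (MulAut.congr e).toEquiv, card_aut] at h2
  have hS : Nat.card S = 660 := by rw [Nat.card_congr e.toEquiv, card_psl]
  have hf := h.faithful h.M_ne_top h.sup
  have hinj : Function.Injective (MulAction.toPermHom G (G ⧸ M)) := MulAction.toPerm_injective
  have hfin : Fintype (G ⧸ M) := Fintype.ofFinite _
  have hdec : DecidableEq (G ⧸ M) := Classical.decEq _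
  have hcard : Fintype.card (G ⧸ M) = 11 := by rw [← Nat.card_eq_fintype_card]; exact h.card_points
  let R : Subgroup (Equiv.Perm (G ⧸ M)) := (MulAction.toPermHom G (G ⧸ M)).range
  let ψ : G ≃* R := MonoidHom.ofInjective hinj
  have hR : Nat.card R = Nat.card G := Nat.card_congr ψ.symm.toEquiv
  have htr : MulAction.IsPretransitive R (G ⧸ M) := by
    constructor
    intro x y
    obtain ⟨g, hg⟩ := MulAction.exists_smul_eq G x y
    exact ⟨ψ g, hg⟩
  have hns : ¬ Group.IsSolvable R := by
    intro h1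
    apply h.nonsol
    exact Group.isSolvable_of_isSolvable_injective (f := ψ.toMonoidHom.comp S.subtype)
      (ψ.injective.comp S.subtype_injective)
  have hA : ¬ alternatingGroup (G ⧸ M) ≤ R := by
    intro h1
    have h2 := Nat.card_le_card_of_injective _ (Subgroup.inclusion_injective h1)
    rw [hR] at h2
    have hnt : Nontrivial (G ⧸ M) := by
      rw [← Fintype.one_lt_card_iff_nontrivial, hcard]
      norm_num
    have h3 := two_mul_nat_card_alternatingGroup (α := G ⧸ M)
    have h4 : Nat.card (Equiv.Perm (G ⧸ M)) = 39916800 := by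
      rw [Nat.card_perm, h.card_points]
      decide
    omega
  rcases Cfsg.Agent.S0679.result hcard R hns hA with ⟨h4, hst⟩ | ⟨⟨f⟩⟩
  · exfalso
    obtain ⟨x⟩ : Nonempty (Fin 4 ↪ (G ⧸ M)) := by
      rw [Function.Embedding.nonempty_iff_card_le, hcard, Fintype.card_fin]
      norm_num
    have h5 := @MulAction.index_stabilizer_of_transitive R (Fin 4 ↪ (G ⧸ M)) _ _ x h4
    have h6 : Nat.card (Fin 4 ↪ (G ⧸ M)) = 7920 := by
      rw [Nat.card_eq_fintype_card, Fintype.card_embedding_eq, hcard, Fintype.card_fin]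
      decide
    have h7 : 7920 ≤ Nat.card R := by
      rw [← h6, ← h5]
      exact Nat.le_of_dvd Nat.card_pos (index_dvd_card _)
    rw [hR] at h7
    omega
  · have h1 : Nat.card G = 660 := by rw [← hR, Nat.card_congr f.toEquiv, card_psl]
    exact (card_eq_iff_eq_top S).1 (hS.trans h1.symm)

end Cfsg.Agent.H852.NCPsl11
end

-- part: H584/NC/StepB
section
prune_inst 0x10000000000000
set_option linter.all false
open scoped Cfsg.Agent.FastGrp

-- part: H584/NC/Comp
section
/-!
# Components of a nonabelian minimal normal subgroup (S4386)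

* `Cmp N C` : `C` is the set of the simple factors of the normal subgroup `N`;
* `Cmp.exists_supplement` : the construction of supplements of `N` from supplements of `T` in `N(T)`.
-/

set_option autoImplicit false

namespace Cfsg.Agent.H584.NC

open Subgroup

universe u v

/-- `C` is the set of the simple factors of the normal subgroup `N`. -/
structure Cmp {X : Type u} [Group X] (N : Subgroup X) (C : Set (Subgroup X)) : Prop where
  normal : N.Normal
  nonempty : C.Nonempty
  le : ∀ T ∈ C, T ≤ N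
  simple : ∀ T ∈ C, IsSimpleGroup T
  center : ∀ T ∈ C, ∀ z ∈ T, (∀ t ∈ T, z * t = t * z) → z = 1
  conj : ∀ T ∈ C, ∀ g : X, T.map (MulAut.conj g).toMonoidHom ∈ C
  trans : ∀ S ∈ C, ∀ T ∈ C, ∃ g : X, T = S.map (MulAut.conj g).toMonoidHom
  comm : ∀ S ∈ C, ∀ T ∈ C, S ≠ T → ∀ x ∈ S, ∀ y ∈ T, x * y = y * x
  sup : sSup C = N
  indep : sSupIndep C

namespace Cmp

variable {X : Type u} [Group X]

theorem of_minimal [Finite X] (N : Subgroup X) (hN : N.Normal)
    (hmin : ∀ M : Subgroup X, M.Normal → M ≤ N → M = ⊥ ∨ M = N)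
    (hna : ¬ ∀ x ∈ N, ∀ y ∈ N, x * y = y * x) : Cmp N (Lib.MinNormalNonabelian.minSet N) := by
  obtain ⟨h1, h2, h3, h4, h5, h6⟩ := Lib.MinNormalNonabelian.nonabelian_structure N hmin hna
  refine ⟨hN, h1, fun T hT => hT.1, h4, h5, fun T hT g => Lib.MinNormalNonabelian.map_conj_mem_minSet hT g, h6, ?_, h3, h2⟩
  intro S hS T hT hST x hx y hy
  exact Lib.MinNormal.commute_of_mem (K := N) h2 (fun U hU => hU.2.2.1) (fun U hU => hU.1) hS hT hST hx hy

variable {N : Subgroup X} {C : Set (Subgroup X)} (h : Cmp N C)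

include h

theorem mem_normalizer_of_map {T : Subgroup X} {g : X} (hg : T.map (MulAut.conj g).toMonoidHom = T) :
    g ∈ normalizer (T : Set X) := by
  rw [mem_normalizer_iff]
  intro y
  constructor
  · intro hy
    rw [← hg]
    exact ⟨y, hy, rfl⟩
  · intro hy
    rw [← hg] at hy
    obtain ⟨x, hx, hxy⟩ := hy
    have hxy' : g * x * g⁻¹ = g * y * g⁻¹ := hxy
    have : x = y := mul_left_cancel (mul_right_cancel hxy')
    exact this ▸ hx

/-- an element which does not normalize `T` moves it to a commuting component -/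
theorem comm_of_notMem {T : Subgroup X} (hT : T ∈ C) {g : X} (hg : g ∉ normalizer (T : Set X)) {x y : X} (hx : x ∈ T)
    (hy : y ∈ T) : g * x * g⁻¹ * y = y * (g * x * g⁻¹) := by
  refine h.comm _ (h.conj T hT g) T hT ?_ _ ⟨x, hx, rfl⟩ y hy
  intro h1
  exact hg (h.mem_normalizer_of_map h1)

theorem disjoint {S T : Subgroup X} (hS : S ∈ C) (hT : T ∈ C) (hST : S ≠ T) {x : X} (hxS : x ∈ S) (hxT : x ∈ T) :
    x = 1 :=
  h.center S hS x hxS fun t ht => (h.comm S hS T hT hST t ht x hxT).symm

/-- `N` normalizes the components. -/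
theorem le_normalizer {T : Subgroup X} (hT : T ∈ C) : N ≤ normalizer (T : Set X) := by
  rw [← h.sup]
  refine sSup_le ?_
  intro S hS
  by_cases hST : S = T
  · subst hST
    exact Subgroup.le_normalizer
  · intro x hx
    rw [mem_normalizer_iff]
    intro y
    constructor
    · intro hy
      rw [h.comm S hS T hT hST x hx y hy, mul_inv_cancel_right]
      exact hy
    · intro hy
      have h1 := h.comm S hS T hT hST x hx _ hy
      have h2 : x * y * x⁻¹ = y := by
        have h3 : x * (x * y * x⁻¹) = x * y := by rw [h1]; group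
        exact mul_left_cancel h3
      rwa [h2] at hy

theorem nonsol [Finite X] {T : Subgroup X} (hT : T ∈ C) : ¬ Group.IsSolvable T := by
  intro h1
  have := h.simple T hT
  have h2 := IsSimpleGroup.comm_iff_isSolvable.2 h1
  obtain ⟨x, hx⟩ := exists_ne (1 : T)
  apply hx
  apply Subtype.ext
  refine h.center T hT x x.2 fun t ht => ?_
  exact congrArg Subtype.val (h2 x ⟨t, ht⟩)

/-- an element which commutes with all components centralizes `N` -/
theorem mem_centralizer {x : X} (hx : ∀ T ∈ C, ∀ t ∈ T, x * t = t * x) : x ∈ centralizer (N : Set X) := by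
  have h1 : N ≤ centralizer ({x} : Set X) := by
    rw [← h.sup]
    refine sSup_le fun T hT t ht => ?_
    rw [mem_centralizer_singleton_iff]
    exact (hx T hT t ht).symm
  rw [Subgroup.mem_centralizer_iff]
  intro n hn
  exact mem_centralizer_singleton_iff.1 (h1 hn)

end Cmp

/-! ### Supplements -/

section Supp

variable {X : Type u} [Group X]

/-- `X ⧸ H → X ⧸ L` -/
abbrev proj {H L : Subgroup X} (hHL : H ≤ L) : X ⧸ H → X ⧸ L := Subgroup.quotientMapOfLE hHL

theorem proj_smul {H L : Subgroup X} (hHL : H ≤ L) (g : X) (ω : X ⧸ H) : proj hHL (g • ω) = g • proj hHL ω := by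
  induction ω using QuotientGroup.induction_on with
  | H x => rfl

variable {N : Subgroup X} {C : Set (Subgroup X)} {T H : Subgroup X}

/-- moving one point of a section -/
theorem exists_move_one (h : Cmp N C) (hT : T ∈ C) (hHL : H ≤ normalizer (T : Set X))
    (hCH : centralizer (T : Set X) ≤ H) (hTH : ∀ l ∈ normalizer (T : Set X), ∃ t ∈ T, ∃ x ∈ H, l = t * x)
    {ω ω' : X ⧸ H} (hω : proj hHL ω = proj hHL ω') :
    ∃ s ∈ N, s • ω = ω' ∧ (∀ ω₁ : X ⧸ H, proj hHL ω₁ ≠ proj hHL ω → s • ω₁ = ω₁) ∧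
      (proj hHL ω ≠ QuotientGroup.mk 1 → s ∈ centralizer (T : Set X)) := by
  induction ω using QuotientGroup.induction_on with
  | H a =>
  induction ω' using QuotientGroup.induction_on with
  | H b =>
  have hab : a⁻¹ * b ∈ normalizer (T : Set X) := by
    have h1 : (QuotientGroup.mk a : X ⧸ normalizer (T : Set X)) = QuotientGroup.mk b := hω
    rwa [QuotientGroup.eq] at h1
  obtain ⟨t, ht, x, hx, htx⟩ := hTH _ hab
  have hconj : ∀ {g : X}, g ∉ normalizer (T : Set X) → g * t * g⁻¹ ∈ centralizer (T : Set X) := by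
    intro g hg
    rw [Subgroup.mem_centralizer_iff]
    intro y hy
    exact (h.comm_of_notMem hT hg ht hy).symm
  refine ⟨a * t * a⁻¹, ?_, ?_, ?_, ?_⟩
  · exact h.normal.conj_mem t (h.le T hT ht) a
  · change (QuotientGroup.mk (a * t * a⁻¹ * a) : X ⧸ H) = QuotientGroup.mk b
    rw [QuotientGroup.eq]
    have h1 : b = a * (t * x) := by rw [← htx]; group
    rw [h1]
    have h2 : (a * t * a⁻¹ * a)⁻¹ * (a * (t * x)) = x := by group
    rw [h2]
    exact hx
  · intro ω₁ hω₁
    induction ω₁ using QuotientGroup.induction_on with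
    | H c =>
    change (QuotientGroup.mk (a * t * a⁻¹ * c) : X ⧸ H) = QuotientGroup.mk c
    rw [eq_comm, QuotientGroup.eq]
    have h1 : c⁻¹ * a ∉ normalizer (T : Set X) := by
      intro h2
      apply hω₁
      change (QuotientGroup.mk c : X ⧸ normalizer (T : Set X)) = QuotientGroup.mk a
      rw [QuotientGroup.eq]
      exact h2
    have h2 : c⁻¹ * (a * t * a⁻¹ * c) = (c⁻¹ * a) * t * (c⁻¹ * a)⁻¹ := by group
    rw [h2]
    exact hCH (hconj h1)
  · intro h1
    apply hconj
    intro h2
    apply h1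
    change (QuotientGroup.mk a : X ⧸ normalizer (T : Set X)) = QuotientGroup.mk 1
    rw [eq_comm, QuotientGroup.eq, inv_one, one_mul]
    exact h2

/-- moving a section -/
theorem exists_move [Finite X] (h : Cmp N C) (hT : T ∈ C) (hHL : H ≤ normalizer (T : Set X))
    (hCH : centralizer (T : Set X) ≤ H) (hTH : ∀ l ∈ normalizer (T : Set X), ∃ t ∈ T, ∃ x ∈ H, l = t * x)
    (σ τ : X ⧸ normalizer (T : Set X) → X ⧸ H) (hσ : ∀ y, proj hHL (σ y) = y) (hτ : ∀ y, proj hHL (τ y) = y)
    (F : Set (X ⧸ normalizer (T : Set X))) :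
    ∃ n ∈ N, (∀ y ∈ F, n • σ y = τ y) ∧ (∀ y ∉ F, n • σ y = σ y) ∧
      (QuotientGroup.mk 1 ∉ F → n ∈ centralizer (T : Set X)) := by
  have hfin : F.Finite := Set.toFinite F
  induction F, hfin using Set.Finite.induction_on with
  | empty =>
    exact ⟨1, one_mem _, fun y hy => absurd hy (Set.notMem_empty y), fun y _ => one_smul _ _, fun _ => one_mem _⟩
  | @insert y F hy _ ih =>
    obtain ⟨n, hn, h1, h2, h3⟩ := ih
    obtain ⟨s, hs, hs1, hs2, hs3⟩ := exists_move_one h hT hHL hCH hTH (ω := σ y) (ω' := τ y) (by rw [hσ, hτ])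
    rw [hσ] at hs2 hs3
    refine ⟨s * n, mul_mem hs hn, ?_, ?_, ?_⟩
    · rintro y' (rfl | hy')
      · rw [mul_smul, h2 _ hy, hs1]
      · rw [mul_smul, h1 y' hy']
        apply hs2
        rw [hτ]
        rintro rfl
        exact hy hy'
    · intro y' hy'
      rw [Set.mem_insert_iff, not_or] at hy'
      rw [mul_smul, h2 y' hy'.2]
      apply hs2
      rw [hσ]
      exact hy'.1
    · intro h4
      rw [Set.mem_insert_iff, not_or] at h4
      exact mul_mem (hs3 (fun h5 => h4.1 h5.symm)) (h3 h4.2)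

/-- **Supplements of `N` from supplements of a component in its normalizer.** -/
theorem Cmp.exists_supplement [Finite X] (h : Cmp N C) (hT : T ∈ C) (hHL : H ≤ normalizer (T : Set X))
    (hCH : centralizer (T : Set X) ≤ H) (hTH : ∀ l ∈ normalizer (T : Set X), ∃ t ∈ T, ∃ x ∈ H, l = t * x)
    (hne : ¬ T ≤ H) :
    ∃ M : Subgroup X, M ≠ ⊤ ∧ N ⊔ M = ⊤ ∧ ∀ x ∈ H, ∃ c ∈ centralizer (T : Set X), c * x ∈ M := by
  classical
  -- a section
  let σ : X ⧸ normalizer (T : Set X) → X ⧸ H := fun y => if y = QuotientGroup.mk 1 then QuotientGroup.mk 1 else QuotientGroup.mk y.out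
  have hσ1 : σ (QuotientGroup.mk 1) = QuotientGroup.mk 1 := if_pos rfl
  have hσ : ∀ y, proj hHL (σ y) = y := by
    intro y
    by_cases hy : y = QuotientGroup.mk 1
    · subst hy
      rw [hσ1]
      rfl
    · have h1 : σ y = QuotientGroup.mk y.out := if_neg hy
      rw [h1]
      exact Quotient.out_eq' y
  let M : Subgroup X :=
    { carrier := {g | ∀ y, g • σ y = σ (g • y)}
      one_mem' := fun y => by rw [one_smul, one_smul]
      mul_mem' := fun {a b} ha hb y => by rw [mul_smul, hb, ha, mul_smul]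
      inv_mem' := fun {a} ha y => by
        rw [inv_smul_eq_iff, ha, smul_inv_smul] }
  have hM : ∀ g, g ∈ M ↔ ∀ y, g • σ y = σ (g • y) := fun g => Iff.rfl
  -- `N` acts trivially on the cosets of the normalizer
  have hNtriv : ∀ n ∈ N, ∀ y : X ⧸ normalizer (T : Set X), n • y = y := by
    intro n hn y
    induction y using QuotientGroup.induction_on with
    | H a =>
    change (QuotientGroup.mk (n * a) : X ⧸ normalizer (T : Set X)) = QuotientGroup.mk a
    rw [eq_comm, QuotientGroup.eq]
    apply h.le_normalizer hT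
    have h1 := h.normal.conj_mem n hn a⁻¹
    rwa [inv_inv, mul_assoc] at h1
  -- the key step
  have key : ∀ g : X, ∀ F : Set (X ⧸ normalizer (T : Set X)),
      (∀ y ∉ F, g • σ (g⁻¹ • y) = σ y) → ∃ n ∈ N, n⁻¹ * g ∈ M ∧ (QuotientGroup.mk 1 ∉ F → n ∈ centralizer (T : Set X)) := by
    intro g F hF
    obtain ⟨n, hn, h1, h2, h3⟩ := exists_move h hT hHL hCH hTH σ (fun y => g • σ (g⁻¹ • y)) hσ
      (fun y => by rw [proj_smul, hσ, smul_inv_smul]) F
    refine ⟨n, hn, ?_, h3⟩
    have h4 : ∀ y, n • σ y = g • σ (g⁻¹ • y) := by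
      intro y
      by_cases hy : y ∈ F
      · exact h1 y hy
      · rw [h2 y hy, hF y hy]
    rw [hM]
    intro y
    rw [mul_smul, mul_smul, hNtriv n⁻¹ (inv_mem hn), inv_smul_eq_iff, h4, inv_smul_smul]
  refine ⟨M, ?_, ?_, ?_⟩
  · intro htop
    apply hne
    intro t ht
    have h1 : t ∈ M := htop ▸ mem_top t
    have h2 := (hM t).1 h1 (QuotientGroup.mk 1)
    have h3 : t • (QuotientGroup.mk 1 : X ⧸ normalizer (T : Set X)) = QuotientGroup.mk 1 := hNtriv t (h.le T hT ht) _
    rw [h3, hσ1] at h2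
    have h4 : (QuotientGroup.mk (t * 1) : X ⧸ H) = QuotientGroup.mk 1 := h2
    rw [QuotientGroup.eq, mul_one, mul_one, inv_mem_iff] at h4
    exact h4
  · rw [eq_top_iff]
    intro g _
    obtain ⟨n, hn, h1, -⟩ := key g Set.univ (fun y hy => absurd (Set.mem_univ y) hy)
    have h2 : g = n * (n⁻¹ * g) := by group
    rw [h2]
    exact mul_mem_sup hn h1
  · intro x hx
    obtain ⟨n, hn, h1, h2⟩ := key x {QuotientGroup.mk 1}ᶜ (by
      intro y hy
      rw [Set.notMem_compl_iff, Set.mem_singleton_iff] at hy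
      subst hy
      have h3 : x⁻¹ • (QuotientGroup.mk 1 : X ⧸ normalizer (T : Set X)) = QuotientGroup.mk 1 := by
        change (QuotientGroup.mk (x⁻¹ * 1) : X ⧸ normalizer (T : Set X)) = QuotientGroup.mk 1
        rw [QuotientGroup.eq, mul_one, mul_one, inv_inv]
        exact hHL hx
      rw [h3, hσ1]
      change (QuotientGroup.mk (x * 1) : X ⧸ H) = QuotientGroup.mk 1
      rw [QuotientGroup.eq, mul_one, mul_one, inv_mem_iff]
      exact hx)
    refine ⟨n⁻¹, inv_mem (h2 ?_), h1⟩
    rw [Set.notMem_compl_iff]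
    rfl

end Supp

end Cfsg.Agent.H584.NC
end

-- part: H584/NC/StepA
section
/-!
# The hypothesis on maximal subgroups and the solvable radical (S4386)
-/

set_option autoImplicit false

namespace Cfsg.Agent.H584.NC

open Subgroup

universe u v

/-- the hypothesis of the statement -/
def Good (X : Type u) [Group X] : Prop := ∀ M : Subgroup X, IsCoatom M → NC M ∨ M.index.Prime

theorem Good.quot {G : Type u} [Group G] [Finite G] (h : Good G) (N : Subgroup G) [N.Normal] : Good (G ⧸ N) := by
  intro M hM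
  have hs := QuotientGroup.mk'_surjective N
  have h1 : IsCoatom (M.comap (QuotientGroup.mk' N)) := Subgroup.isCoatom_comap_of_surjective hs hM
  rcases h _ h1 with h2 | h2
  · exact Or.inl (NC.of_surjective ((QuotientGroup.mk' N).subgroupComap M)
      ((QuotientGroup.mk' N).subgroupComap_surjective_of_surjective M hs) h2)
  · rw [index_comap_of_surjective _ hs] at h2
    exact Or.inr h2

theorem exists_sylow_inf {X : Type u} [Group X] [Finite X] {r : ℕ} [hr : Fact r.Prime] (R : Sylow r X) (K : Subgroup X)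
    [hK : K.Normal] : ∃ Q : Sylow r K, (Q : Subgroup K).map K.subtype = (R : Subgroup X) ⊓ K := by
  have h1 : IsPGroup r (((R : Subgroup X) ⊓ K).subgroupOf K) :=
    (R.isPGroup'.to_le inf_le_left).comap_of_injective K.subtype (Subgroup.subtype_injective _)
  obtain ⟨Q, hQ⟩ := h1.exists_le_sylow
  have h2 : IsPGroup r ((Q : Subgroup K).map K.subtype : Subgroup X) := Q.isPGroup'.map _
  obtain ⟨P, hP⟩ := h2.exists_le_sylow
  obtain ⟨g, hg⟩ := MulAction.exists_smul_eq X P R
  refine ⟨Q, ?_⟩
  symm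
  apply Subgroup.eq_of_le_of_card_ge
  · intro x hx
    exact ⟨⟨x, hx.2⟩, hQ (by rw [mem_subgroupOf]; exact hx), rfl⟩
  · have h4 : ((Q : Subgroup K).map K.subtype).map (MulAut.conj g).toMonoidHom ≤ (R : Subgroup X) ⊓ K := by
      apply le_inf
      · rw [← hg, Sylow.coe_subgroup_smul]
        exact map_mono hP
      · rintro _ ⟨_, ⟨x, -, rfl⟩, rfl⟩
        exact hK.conj_mem x x.2 g
    calc Nat.card ((Q : Subgroup K).map K.subtype : Subgroup X)
        = Nat.card (((Q : Subgroup K).map K.subtype).map (MulAut.conj g).toMonoidHom : Subgroup X) :=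
          (Subgroup.card_map_of_injective (MulAut.conj g).injective).symm
      _ ≤ _ := Subgroup.card_le_of_le h4

/-- **Frattini's argument** for a Sylow subgroup of the whole group. -/
theorem frattini {X : Type u} [Group X] [Finite X] {r : ℕ} [hr : Fact r.Prime] (R : Sylow r X) (K : Subgroup X)
    [hK : K.Normal] : K ⊔ normalizer (((R : Subgroup X) ⊓ K : Subgroup X) : Set X) = ⊤ := by
  obtain ⟨Q, hQ⟩ := exists_sylow_inf R K
  rw [← hQ, sup_comm]
  exact Sylow.normalizer_sup_eq_top Q

theorem not_dvd_relIndex {X : Type u} [Group X] [Finite X] {r : ℕ} [hr : Fact r.Prime] (R : Sylow r X) (K : Subgroup X)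
    [hK : K.Normal] : ¬ r ∣ ((R : Subgroup X) ⊓ K).relIndex K := by
  obtain ⟨Q, hQ⟩ := exists_sylow_inf R K
  rw [← hQ]
  have h1 : ((Q : Subgroup K).map K.subtype).subgroupOf K = Q := by
    ext x
    rw [mem_subgroupOf]
    constructor
    · rintro ⟨y, hy, hyx⟩
      have : y = x := Subtype.ext hyx
      exact this ▸ hy
    · intro hx
      exact ⟨x, hx, rfl⟩
  unfold relIndex
  rw [h1]
  exact Q.not_dvd_index

theorem isSolvable_of_sup {X : Type u} [Group X] {T M : Subgroup X} [T.Normal] (hT : Group.IsSolvable T)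
    (hM : Group.IsSolvable M) (h : T ⊔ M = ⊤) : Group.IsSolvable X := by
  have h1 : Function.Surjective ((QuotientGroup.mk' T).comp M.subtype) := by
    intro y
    obtain ⟨x, rfl⟩ := QuotientGroup.mk'_surjective T y
    have hx : x ∈ T ⊔ M := h ▸ mem_top x
    rw [mem_sup_of_normal_left] at hx
    obtain ⟨t, ht, m, hm, rfl⟩ := hx
    refine ⟨⟨m, hm⟩, ?_⟩
    change QuotientGroup.mk' T m = QuotientGroup.mk' T (t * m)
    rw [map_mul]
    have h2 : QuotientGroup.mk' T t = 1 := (QuotientGroup.eq_one_iff t).2 ht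
    rw [h2, one_mul]
  have h2 : Group.IsSolvable (X ⧸ T) := solvable_of_surjective h1
  exact solvable_of_ker_le_range T.subtype (QuotientGroup.mk' T) (by rw [QuotientGroup.ker_mk', Subgroup.range_subtype])

/-- **Step A.** -/
theorem stepA {X : Type u} [Group X] [Finite X] (hgood : Good X) (hns : ¬ Group.IsSolvable X) (T V : Subgroup X)
    [hTn : T.Normal] [hVn : V.Normal] (hTV : T ≤ V) (hT2 : IsPGroup 2 T) {r : ℕ} (hr : r.Prime) (hr2 : r ≠ 2) {k : ℕ}
    (hV : T.relIndex V = r ^ k) (hodd : ∀ K : Subgroup X, K.Normal → ¬ 2 ∣ Nat.card K → K = ⊥) : V = T := by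
  have hrf : Fact r.Prime := ⟨hr⟩
  obtain ⟨R⟩ : Nonempty (Sylow r X) := inferInstance
  set P : Subgroup X := (R : Subgroup X) ⊓ V with hP
  have hPr : IsPGroup r P := R.isPGroup'.to_le inf_le_left
  have hcop : ¬ r ∣ Nat.card T := by
    obtain ⟨j, hj⟩ := IsPGroup.iff_card.1 hT2
    rw [hj]
    intro h1
    exact hr2 ((Nat.prime_dvd_prime_iff_eq hr Nat.prime_two).1 (hr.dvd_of_dvd_pow h1))
  -- `V = T P`
  have hVTP : V ≤ T ⊔ P := by
    -- the index of `P` in `V` is prime to `r`
    have h1 : ¬ r ∣ P.relIndex V := not_dvd_relIndex R V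
    have h2 : (T ⊔ P).relIndex V ∣ P.relIndex V := relIndex_dvd_of_le_left V le_sup_right
    have h3 : (T ⊔ P).relIndex V ∣ r ^ k := hV ▸ relIndex_dvd_of_le_left V le_sup_left
    obtain ⟨j, -, hj⟩ := (Nat.dvd_prime_pow hr).1 h3
    rcases j with _ | j
    · rw [pow_zero] at hj
      exact relIndex_eq_one.1 hj
    · exact absurd ((hj ▸ dvd_pow_self r (Nat.succ_ne_zero j)).trans h2) h1
  by_cases hP1 : P = ⊥
  · rw [hP1, sup_bot_eq] at hVTP
    exact le_antisymm hVTP hTV
  exfalso
  have hTN : T ⊔ normalizer (P : Set X) = ⊤ := by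
    have h1 := frattini R V
    rw [← hP] at h1
    rw [eq_top_iff, ← h1]
    exact sup_le (hVTP.trans (sup_le_sup_left Subgroup.le_normalizer T)) le_sup_right
  have hne : normalizer (P : Set X) ≠ ⊤ := by
    intro h1
    apply hP1
    apply hodd P (normalizer_eq_top_iff.1 h1)
    obtain ⟨j, hj⟩ := IsPGroup.iff_card.1 hPr
    rw [hj]
    intro h2
    exact hr2 ((Nat.prime_dvd_prime_iff_eq Nat.prime_two hr).1 (Nat.prime_two.dvd_of_dvd_pow h2)).symm
  obtain ⟨M, hM, hNM⟩ := (eq_top_or_exists_le_coatom (normalizer (P : Set X))).resolve_left hne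
  have hTM : T ⊔ M = ⊤ := top_le_iff.1 (hTN ▸ sup_le_sup_left hNM T)
  rcases hgood M hM with h1 | h1
  · apply hns
    have hTs : Group.IsSolvable T := by
      have := hT2.isNilpotent
      infer_instance
    exact isSolvable_of_sup hTs h1.solvable hTM
  · have h2 : M.index ∣ Nat.card T := by
      rw [← relIndex_of_sup hTn hTM]
      exact relIndex_dvd_card M T
    obtain ⟨j, hj⟩ := IsPGroup.iff_card.1 hT2
    rw [hj] at h2
    have h3 : M.index = 2 := (Nat.prime_dvd_prime_iff_eq h1 Nat.prime_two).1 (h1.dvd_of_dvd_pow h2)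
    have hMn : M.Normal := normal_of_index_eq_two h3
    have h4 := frattini R (M ⊓ V)
    have h5 : (R : Subgroup X) ⊓ (M ⊓ V) = P := by
      rw [hP]
      apply le_antisymm
      · exact inf_le_inf_left _ inf_le_right
      · exact le_inf inf_le_left (le_inf (Subgroup.le_normalizer.trans hNM) inf_le_right)
    rw [h5] at h4
    apply hM.1
    rw [eq_top_iff, ← h4]
    exact sup_le inf_le_left hNM

end Cfsg.Agent.H584.NC
end

-- part: H584/NC/StepB
section
/-!
# The solvable radical and the minimal normal subgroup (S4386)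
-/

set_option autoImplicit false

namespace Cfsg.Agent.H584.NC

open Subgroup

universe u v

theorem exists_minimal_normal {G : Type u} [Group G] [Finite G] (C : Subgroup G) (hCn : C.Normal) (hC : C ≠ ⊥) :
    ∃ N : Subgroup G, N.Normal ∧ N ≤ C ∧ N ≠ ⊥ ∧ ∀ M : Subgroup G, M.Normal → M ≤ N → M = ⊥ ∨ M = N := by
  obtain ⟨N, hN⟩ := (Set.toFinite {N : Subgroup G | N.Normal ∧ N ≤ C ∧ N ≠ ⊥}).exists_minimal
    ⟨C, hCn, le_rfl, hC⟩
  refine ⟨N, hN.1.1, hN.1.2.1, hN.1.2.2, fun M hM hMN => ?_⟩
  by_cases h : M = ⊥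
  · exact Or.inl h
  · exact Or.inr (le_antisymm hMN (hN.2 ⟨hM, hMN.trans hN.1.2.1, h⟩ hMN))

/-- a minimal normal subgroup is a `p`-group or nonabelian with components -/
theorem minimal_cases {G : Type u} [Group G] [Finite G] (N : Subgroup G) (hNn : N.Normal) (hN : N ≠ ⊥)
    (hmin : ∀ M : Subgroup G, M.Normal → M ≤ N → M = ⊥ ∨ M = N) :
    (∃ p : ℕ, p.Prime ∧ IsPGroup p N) ∨ ∃ C : Set (Subgroup G), Cmp N C := by
  by_cases hab : ∀ x ∈ N, ∀ y ∈ N, x * y = y * x
  · left
    obtain ⟨p, hp, h1, -⟩ := Lib.MinNormalNonabelian.abelian_structure N hN hmin hab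
    exact ⟨p, hp, h1⟩
  · exact Or.inr ⟨_, Cmp.of_minimal N hNn hmin hab⟩

theorem minimal_of_solvable {G : Type u} [Group G] [Finite G] (N : Subgroup G) (hNn : N.Normal) (hN : N ≠ ⊥)
    (hmin : ∀ M : Subgroup G, M.Normal → M ≤ N → M = ⊥ ∨ M = N) (hs : Group.IsSolvable N) :
    ∃ p : ℕ, p.Prime ∧ IsPGroup p N := by
  rcases minimal_cases N hNn hN hmin with h | ⟨C, h⟩
  · exact h
  · exfalso
    obtain ⟨T, hT⟩ := h.nonempty
    apply h.nonsol hT
    exact solvable_of_solvable_injective (f := Subgroup.inclusion (h.le T hT)) (Subgroup.inclusion_injective _)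

/-- **The radical.** -/
theorem radical {G : Type u} [Group G] [Finite G] (hns : ¬ Group.IsSolvable G) (hgood : Good G)
    (T : Subgroup G) [hTn : T.Normal] (hOT : Cfsg.oddCore G ≤ T) (hT2 : ∃ k : ℕ, (Cfsg.oddCore G).relIndex T = 2 ^ k)
    (hTmax : ∀ N : Subgroup G, N.Normal → Cfsg.oddCore G ≤ N → (∃ k : ℕ, (Cfsg.oddCore G).relIndex N = 2 ^ k) → N ≤ T) :
    Group.IsSolvable T ∧ ∀ N : Subgroup G, N.Normal → Group.IsSolvable N → N ≤ T := by
  have hOn : (Cfsg.oddCore G).Normal := Lib.Cores.pPrimeCore_normal 2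
  have hOc : (Nat.card (Cfsg.oddCore G)).Coprime 2 := Lib.Cores.pPrimeCore_coprime 2
  obtain ⟨k, hk⟩ := hT2
  have hTs : Group.IsSolvable T := by
    have h1 : NC T := by
      refine NC_iff.2 ⟨(Cfsg.oddCore G).subgroupOf T, hOn.subgroupOf T, ?_, ?_⟩
      · have h2 : Nat.card ((Cfsg.oddCore G).subgroupOf T) ∣ Nat.card (Cfsg.oddCore G) :=
          (Nat.card_congr (Subgroup.subgroupOfEquivOfLe hOT).toEquiv).dvd
        exact hOc.coprime_dvd_left h2
      · exact IsPGroup.of_card (n := k) hk
    exact h1.solvable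
  refine ⟨hTs, ?_⟩
  intro N hN hNs
  by_contra hcon
  have hs := QuotientGroup.mk'_surjective T
  have hNbar : (N.map (QuotientGroup.mk' T)) ≠ ⊥ := by
    intro h1
    rw [Subgroup.map_eq_bot_iff, QuotientGroup.ker_mk'] at h1
    exact hcon h1
  obtain ⟨V, hVn, hVN, hV1, hVmin⟩ := exists_minimal_normal (N.map (QuotientGroup.mk' T)) (hN.map _ hs) hNbar
  have hNbs : Group.IsSolvable (N.map (QuotientGroup.mk' T)) :=
    solvable_of_surjective ((QuotientGroup.mk' T).subgroupMap_surjective N)
  have hVs : Group.IsSolvable V :=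
    solvable_of_solvable_injective (f := Subgroup.inclusion hVN) (Subgroup.inclusion_injective _)
  obtain ⟨r, hr, hVr⟩ := minimal_of_solvable V hVn hV1 hVmin hVs
  set W : Subgroup G := V.comap (QuotientGroup.mk' T) with hW
  have hWn : W.Normal := hVn.comap _
  have hTW : T ≤ W := by
    intro t ht
    rw [hW, mem_comap]
    have : QuotientGroup.mk' T t = 1 := (QuotientGroup.eq_one_iff t).2 ht
    rw [this]
    exact one_mem V
  have hWV : W.map (QuotientGroup.mk' T) = V := map_comap_eq_self_of_surjective hs V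
  have hrf : Fact r.Prime := ⟨hr⟩
  obtain ⟨j, hj⟩ := IsPGroup.iff_card.1 hVr
  have hrel : T.relIndex W = r ^ j := by
    have h1 := relIndex_ker (QuotientGroup.mk' T) (K := W)
    rw [QuotientGroup.ker_mk', hWV, hj] at h1
    exact h1
  have hWT : ¬ W ≤ T := by
    intro h1
    apply hV1
    rw [← hWV, Subgroup.map_eq_bot_iff, QuotientGroup.ker_mk']
    exact h1
  by_cases hr2 : r = 2
  · subst hr2
    apply hWT
    apply hTmax W hWn (hOT.trans hTW)
    exact ⟨k + j, by rw [← relIndex_mul_relIndex _ _ _ hOT hTW, hk, hrel, pow_add]⟩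
  · set f := QuotientGroup.mk' (Cfsg.oddCore G) with hf
    have hfs : Function.Surjective f := QuotientGroup.mk'_surjective _
    have hker : f.ker = Cfsg.oddCore G := QuotientGroup.ker_mk' _
    have hTn' : (T.map f).Normal := hTn.map f hfs
    have hWn' : (W.map f).Normal := hWn.map f hfs
    have hOs : Group.IsSolvable (Cfsg.oddCore G) :=
      (NC_of_odd ((Nat.Prime.coprime_iff_not_dvd Nat.prime_two).1 hOc.symm)).solvable
    have h1 : W.map f = T.map f := by
      refine stepA (X := G ⧸ Cfsg.oddCore G) (hgood.quot _) ?_ (T.map f) (W.map f) (map_mono hTW) ?_ hr hr2 (k := j) ?_ ?_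
      · intro h2
        apply hns
        exact solvable_of_ker_le_range (Cfsg.oddCore G).subtype f (by rw [hker, Subgroup.range_subtype])
      · rw [IsPGroup.iff_card]
        exact ⟨k, by rw [← relIndex_ker, hker, hk]⟩
      · rw [relIndex_map_map, hker, sup_eq_left.2 hOT, sup_eq_left.2 (hOT.trans hTW), hrel]
      · intro K hK hodd
        have h2 : K ≤ Cfsg.pPrimeCore 2 (G ⧸ Cfsg.oddCore G) :=
          Lib.Cores.le_pPrimeCore hK ((Nat.Prime.coprime_iff_not_dvd Nat.prime_two).2 hodd).symm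
        have h3 : Cfsg.pPrimeCore 2 (G ⧸ Cfsg.oddCore G) = ⊥ := Lib.Cores.pPrimeCore_quotient_pPrimeCore 2
        rw [h3, le_bot_iff] at h2
        exact h2
    apply hWT
    have h2 : (W.map f).comap f = (T.map f).comap f := by rw [h1]
    rw [comap_map_eq, comap_map_eq, hker, sup_eq_left.2 hOT, sup_eq_left.2 (hOT.trans hTW)] at h2
    exact h2.le

/-- The index of a subgroup containing the normalizer of a Sylow `p`-subgroup is `1` modulo `p`. -/
theorem index_modEq_one {G : Type*} [Group G] [Finite G] {p : ℕ} [Fact p.Prime] (P : Sylow p G) (M : Subgroup G)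
    (h : Subgroup.normalizer ((P : Subgroup G) : Set G) ≤ M) : M.index ≡ 1 [MOD p] := by
  have hPM : (P : Subgroup G) ≤ M := Subgroup.le_normalizer.trans h
  have h1 := card_sylow_modEq_one p M
  rw [Sylow.card_eq_index_normalizer (P.subtype hPM)] at h1
  have h2 := card_sylow_modEq_one p G
  rw [Sylow.card_eq_index_normalizer P] at h2
  have h3 : Subgroup.normalizer ((P.subtype hPM : Subgroup M) : Set M) =
      (Subgroup.normalizer ((P : Subgroup G) : Set G)).subgroupOf M := by
    ext x
    rw [Subgroup.mem_subgroupOf, Subgroup.mem_normalizer_iff, Subgroup.mem_normalizer_iff]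
    constructor
    · intro hx y
      constructor
      · intro hy
        exact (hx ⟨y, hPM hy⟩).mp hy
      · intro hy
        have hyM : y ∈ M := by
          have h4 := M.mul_mem (M.mul_mem (M.inv_mem x.2) (hPM hy)) x.2
          simpa [mul_assoc] using h4
        exact (hx ⟨y, hyM⟩).mpr hy
    · intro hx y
      exact hx y
  have h1' : (Subgroup.normalizer ((P.subtype hPM : Subgroup M) : Set M)).index ≡ 1 [MOD p] := h1
  rw [h3] at h1'
  have h4 := Subgroup.relIndex_mul_index h
  have h2' : (Subgroup.normalizer ((P : Subgroup G) : Set G)).index ≡ 1 [MOD p] := h2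
  rw [← h4] at h2'
  have h5 : (Subgroup.normalizer ((P : Subgroup G) : Set G)).relIndex M * M.index ≡ 1 * M.index [MOD p] :=
    Nat.ModEq.mul_right _ h1'
  rw [one_mul] at h5
  exact h5.symm.trans h2'

/-- **Step B.** -/
theorem stepB {X : Type u} [Group X] [Finite X] (hgood : Good X) (hns : ¬ Group.IsSolvable X)
    (hrad : ∀ K : Subgroup X, K.Normal → Group.IsSolvable K → K = ⊥) :
    ∃ (N : Subgroup X) (C : Set (Subgroup X)), Cmp N C ∧ N ≠ ⊥ ∧ (∀ M : Subgroup X, M.Normal → M ≤ N → M = ⊥ ∨ M = N) ∧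
      centralizer (N : Set X) = ⊥ := by
  have htop : (⊤ : Subgroup X) ≠ ⊥ := by
    intro h1
    apply hns
    have : Subsingleton X := Subgroup.subsingleton_iff.1 (subsingleton_of_bot_eq_top h1.symm)
    infer_instance
  -- the quotient by any minimal normal subgroup is solvable
  have key : ∀ N : Subgroup X, N.Normal → N ≠ ⊥ → (∀ M : Subgroup X, M.Normal → M ≤ N → M = ⊥ ∨ M = N) →
      ∃ M : Subgroup X, NC M ∧ N ⊔ M = ⊤ := by
    intro N hNn hN hmin
    obtain ⟨p, hp, hpN, hpmax⟩ : ∃ p : ℕ, p.Prime ∧ p ∣ Nat.card N ∧ ∀ q : ℕ, q.Prime → q ∣ Nat.card N → q ≤ p := by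
      have h1 : Nat.card N ≠ 1 := fun h => hN (Subgroup.card_eq_one.1 h)
      have h0 : Nat.card N ≠ 0 := Nat.card_pos.ne'
      have hne : (Nat.card N).primeFactors.Nonempty := Nat.nonempty_primeFactors.2 (by omega)
      refine ⟨(Nat.card N).primeFactors.max' hne, ?_, ?_, ?_⟩
      · exact Nat.prime_of_mem_primeFactors (Finset.max'_mem _ hne)
      · exact Nat.dvd_of_mem_primeFactors (Finset.max'_mem _ hne)
      · intro q hq hqN
        exact Finset.le_max' _ _ (Nat.mem_primeFactors.2 ⟨hq, hqN, h0⟩)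
    have hpf : Fact p.Prime := ⟨hp⟩
    obtain ⟨P⟩ : Nonempty (Sylow p N) := inferInstance
    set P' : Subgroup X := (P : Subgroup N).map N.subtype with hP'
    have hfr : N ⊔ normalizer (P' : Set X) = ⊤ := by
      rw [sup_comm]
      exact Sylow.normalizer_sup_eq_top P
    have hne : normalizer (P' : Set X) ≠ ⊤ := by
      intro h1
      have h2 : IsPGroup p P' := P.isPGroup'.map _
      have h3 : P' = ⊥ := by
        apply hrad P' (normalizer_eq_top_iff.1 h1)
        have := h2.isNilpotent
        infer_instance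
      rw [hP', map_eq_bot_iff_of_injective _ (Subgroup.subtype_injective _)] at h3
      have h4 : p ∣ Nat.card (P : Subgroup N) := P.dvd_card_of_dvd_card hpN
      rw [h3, Subgroup.card_bot, Nat.dvd_one] at h4
      exact hp.one_lt.ne' h4
    obtain ⟨M, hM, hNM⟩ := (eq_top_or_exists_le_coatom (normalizer (P' : Set X))).resolve_left hne
    have hsup : N ⊔ M = ⊤ := top_le_iff.1 (hfr ▸ sup_le_sup_left hNM N)
    rcases hgood M hM with h1 | h1
    · exact ⟨M, h1, hsup⟩
    · exfalso
      have h2 : M.index ∣ Nat.card N := by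
        rw [← relIndex_of_sup hNn hsup]
        exact relIndex_dvd_card M N
      have h3 := hpmax _ h1 h2
      have h4 : M.index ≡ 1 [MOD p] := by
        rw [← relIndex_of_sup hNn hsup]
        refine index_modEq_one P _ ?_
        intro x hx
        rw [mem_subgroupOf]
        apply hNM
        rw [mem_normalizer_iff] at hx ⊢
        intro y
        constructor
        · rintro ⟨z, hz, rfl⟩
          exact ⟨x * z * x⁻¹, (hx z).1 hz, rfl⟩
        · rintro ⟨z, hz, hzy⟩
          have h5 : y = (x : X)⁻¹ * z * x := by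
            have h6 : (z : X) = x * y * (x : X)⁻¹ := hzy
            rw [h6]; group
          refine ⟨x⁻¹ * z * x, ?_, by rw [h5]; rfl⟩
          have h6 : x * (x⁻¹ * z * x) * x⁻¹ = z := by group
          exact (hx _).2 (by rw [h6]; exact hz)
      have h5 : p ∣ M.index - 1 := (Nat.modEq_iff_dvd' h1.one_lt.le).1 h4.symm
      have h6 := Nat.le_of_dvd (by have := h1.one_lt; omega) h5
      have := h1.one_lt
      omega
  obtain ⟨N, hNn, -, hN, hmin⟩ := exists_minimal_normal (⊤ : Subgroup X) inferInstance htop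
  have hquot : ∀ K : Subgroup X, K.Normal → N ⊓ K = ⊥ → K = ⊥ := by
    intro K hK hNK
    apply hrad K hK
    obtain ⟨M, hM, hsup⟩ := key N hNn hN hmin
    have h1 : Function.Surjective ((QuotientGroup.mk' N).comp M.subtype) := by
      intro y
      obtain ⟨x, rfl⟩ := QuotientGroup.mk'_surjective N y
      have hx : x ∈ N ⊔ M := hsup ▸ mem_top x
      rw [mem_sup_of_normal_left] at hx
      obtain ⟨t, ht, m, hm, rfl⟩ := hx
      refine ⟨⟨m, hm⟩, ?_⟩
      change QuotientGroup.mk' N m = QuotientGroup.mk' N (t * m)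
      rw [map_mul]
      have h2 : QuotientGroup.mk' N t = 1 := (QuotientGroup.eq_one_iff t).2 ht
      rw [h2, one_mul]
    have hMs := hM.solvable
    have h2 : Group.IsSolvable (X ⧸ N) := solvable_of_surjective h1
    refine solvable_of_solvable_injective (f := (QuotientGroup.mk' N).comp K.subtype) ?_
    rw [injective_iff_map_eq_one]
    intro x hx
    have h3 : (x : X) ∈ N := (QuotientGroup.eq_one_iff (x : X)).1 hx
    have h4 : (x : X) ∈ N ⊓ K := ⟨h3, x.2⟩
    rw [hNK, mem_bot] at h4
    exact Subtype.ext h4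
  rcases minimal_cases N hNn hN hmin with ⟨p, hp, hpN⟩ | ⟨C, hC⟩
  · exfalso
    apply hN
    apply hrad N hNn
    have := Fact.mk hp
    have := hpN.isNilpotent
    infer_instance
  · refine ⟨N, C, hC, hN, hmin, ?_⟩
    apply hquot _ inferInstance
    rw [eq_bot_iff]
    intro x hx
    obtain ⟨T, hT⟩ := hC.nonempty
    -- `x` centralizes `N` and lies in `N`
    have h1 : N ⊓ centralizer (N : Set X) = ⊥ := by
      apply hrad _ inferInstance
      have : IsMulCommutative ↥(N ⊓ centralizer (N : Set X)) := ⟨⟨fun a b => by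
        apply Subtype.ext
        exact (Subgroup.mem_centralizer_iff.1 a.2.2 b b.2.1).symm⟩⟩
      let _ : CommGroup ↥(N ⊓ centralizer (N : Set X)) :=
        { (inferInstance : Group ↥(N ⊓ centralizer (N : Set X))) with mul_comm := this.1.1 }
      infer_instance
    rw [h1] at hx
    exact hx

end Cfsg.Agent.H584.NC
end
end
end
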